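import Cfsg.Agent.UGT.FourA.Hon
import Cfsg.Agent.UGT.RankOneR
import Cfsg.Agent.UGT.Res.OnePoint

/-!
# `G = X⟨x⟩`, `|G : X| = 2`

`Idx X x`; `core_eq_bot`: `O(C(t)) = 1`; `exists_conj`: Sylow's theorem in a subgroup; `no_E16`: the 2-rank of `C(x)` is at most
three; `comm_of_core`: step (3) of Theorem 4A.
-/

set_option autoImplicit false

open Cfsg Subgroup
open Cfsg.Agent.SignalizersComponents Cfsg.Agent.Lib
open Cfsg.Agent.SignalizersComponents.IntrinsicBasic
open Cfsg.Agent.Intrinsic.Basic Cfsg.Agent.Intrinsic.Cen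
open Cfsg.Agent.UGT.Triple Cfsg.Agent.UGT.Iface Cfsg.Agent.UGT.Res.KFacts
open Cfsg.Agent.UGT.Res.EFacts Cfsg.Agent.UGT.FourA.Hon
open Cfsg.Agent.GH.L2Aut Cfsg.Agent.UGT.RankOneR
open scoped commutatorElement

namespace Cfsg.Agent.UGT.FourA.Top

universe u

variable {G : Type u} [Group G]

/-- `|G : X| = 2`, `x ∉ X` an involution -/
structure Idx (X : Subgroup G) (x : G) : Prop where
  XN : X.Normal
  xX : x ∉ X
  xx : x * x = 1
  cov : ∀ g, g ∈ X ∨ g * x ∈ X

namespace Idx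

variable {X : Subgroup G} {x : G} (I : Idx X x)
include I

theorem mul_mem {g h : G} (hg : g ∉ X) (hh : h ∉ X) : g * h ∈ X := by
  have h1 := (I.cov g).resolve_left hg
  have h2 := (I.cov h).resolve_left hh
  have h3 := I.XN.conj_mem _ h2 x
  have hxi : x⁻¹ = x := inv_eq_of_mul_eq_one_left I.xx
  have h4 : g * h = g * x * (x * (h * x) * x⁻¹) := by
    rw [hxi]
    calc g * h = g * 1 * h * 1 := by group
      _ = g * (x * x) * h * (x * x) := by rw [I.xx]
      _ = _ := by group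
  rw [h4]
  exact X.mul_mem h1 h3

theorem sq_mem (g : G) : g * g ∈ X := by
  by_cases hg : g ∈ X
  · exact X.mul_mem hg hg
  · exact I.mul_mem hg hg

theorem odd_mem {g : G} (h : Odd (orderOf g)) : g ∈ X := by
  obtain ⟨k, hk⟩ := h
  have h1 : g = (g * g) ^ (k + 1) := by
    have h2 : (g * g) ^ (k + 1) = g ^ orderOf g * g := by
      rw [hk, ← pow_two, ← pow_mul, ← pow_succ]
      congr 1
    rw [h2, pow_orderOf_eq_one, one_mul]
  rw [h1]
  exact X.pow_mem (I.sq_mem g) _

theorem comm_mem (g h : G) : ⁅g, h⁆ ∈ X := by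
  rw [commutatorElement_def]
  by_cases hg : g ∈ X
  · have h1 := I.XN.conj_mem _ (X.inv_mem hg) h
    have e : g * h * g⁻¹ * h⁻¹ = g * (h * g⁻¹ * h⁻¹) := by group
    rw [e]
    exact X.mul_mem hg h1
  · by_cases hh : h ∈ X
    · exact X.mul_mem (I.XN.conj_mem _ hh g) (X.inv_mem hh)
    · have h1 := I.mul_mem hg hh
      have h2 := I.mul_mem (g := g⁻¹) (h := h⁻¹) (fun h => hg (by simpa using h))
        (fun h => hh (by simpa using h))
      have e : g * h * g⁻¹ * h⁻¹ = g * h * (g⁻¹ * h⁻¹) := by group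
      rw [e]
      exact X.mul_mem h1 h2

theorem perfect_le {L : Subgroup G} (hL : ⁅L, L⁆ = L) : L ≤ X := by
  rw [← hL, commutator_le]
  exact fun g _ h _ => I.comm_mem g h

variable [Finite G]

theorem core_eq_bot {t : G} (h : core (X ⊓ centralizer ({t} : Set G)) = ⊥) :
    core (centralizer ({t} : Set G)) = ⊥ := by
  rw [eq_bot_iff, ← h]
  refine le_core (fun o ho => ⟨I.odd_mem ?_, core_le _ ho⟩) ?_ (odd_card_core _)
  · have h4 := orderOf_dvd_natCard (⟨o, ho⟩ : ↥(core (centralizer ({t} : Set G))))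
    rw [Subgroup.orderOf_mk] at h4
    exact Odd.of_dvd_nat (odd_card_core _) h4
  · exact inf_le_right.trans (le_normalizer_core _)

end Idx

/-- Sylow's theorem in `H` -/
theorem exists_conj [Finite G] {H T V : Subgroup G} (hT : IsPGroup 2 T) (hTH : T ≤ H)
    (hmax : ∀ U : Subgroup G, IsPGroup 2 U → T ≤ U → U ≤ H → U ≤ T) (hV : IsPGroup 2 V)
    (hVH : V ≤ H) : ∃ h ∈ H, ∀ v ∈ V, h * v * h⁻¹ ∈ T := by
  have h2 : Fact (Nat.Prime 2) := ⟨Nat.prime_two⟩
  obtain ⟨S, hS⟩ := (hT.comap_of_injective (H := T) H.subtype H.subtype_injective).exists_le_sylow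
  have hST : (S : Subgroup H) = T.subgroupOf H := by
    apply le_antisymm _ hS
    intro s hs
    have h3 := hmax ((S : Subgroup H).map H.subtype) (S.2.map _)
      (fun t ht => ⟨⟨t, hTH ht⟩, hS ht, rfl⟩) (map_subtype_le _)
    exact h3 ⟨s, hs, rfl⟩
  obtain ⟨W, hW⟩ := (hV.comap_of_injective (H := V) H.subtype H.subtype_injective).exists_le_sylow
  obtain ⟨g, hg⟩ := MulAction.exists_smul_eq H W S
  refine ⟨g, g.2, fun v hv => ?_⟩
  have h4 : (⟨v, hVH hv⟩ : H) ∈ (W : Subgroup H) := hW hv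
  have h5 : g * ⟨v, hVH hv⟩ * g⁻¹ ∈ ((g • W : Sylow 2 H) : Subgroup H) := by
    rw [Sylow.coe_subgroup_smul]
    exact Subgroup.smul_mem_pointwise_smul _ (MulAut.conj g) _ h4
  rw [hg] at h5
  change _ ∈ (S : Subgroup H) at h5
  rw [hST] at h5
  exact h5

section

variable {a x d r : G} {L T Q P : Subgroup G} {s : G}

/-- There are no 16 elements with square 1 in `C_T(x)`. -/
theorem no_sixteen' [Finite G] (C : Cfg a x d r L T Q P) (hs : Cfg.IsS x d P s) (hR : Cfg.One x a Q)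
    {g c b u v : G} (hab : Four c b) (huv : Four u v)
    (hc : ∀ y ∈ hab.sub, ∀ z ∈ huv.sub, y * z = z * y) (hd : hab.sub ⊓ huv.sub = ⊥)
    (hT : ∀ y ∈ hab.sub, g⁻¹ * y * g ∈ T ∧ g⁻¹ * y * g * x = x * (g⁻¹ * y * g))
    (hT' : ∀ y ∈ huv.sub, g⁻¹ * y * g ∈ T ∧ g⁻¹ * y * g * x = x * (g⁻¹ * y * g)) : False := by
  classical
  let F : Bool × Bool × Bool → G := fun b => (cond b.1 a 1) * (cond b.2.1 s 1) * (cond b.2.2 x 1)
  have hsq : ∀ {p q : G} (h : Four p q), ∀ y ∈ h.sub, y * y = 1 := by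
    intro p q h y hy
    rcases hy with rfl | rfl | rfl | rfl
    · exact one_mul _
    · exact h.aa
    · exact h.bb
    · calc p * q * (p * q) = p * (q * p) * q := by group
        _ = 1 := by rw [← h.comm]; rw [← mul_assoc, h.aa, one_mul, h.bb]
  have h1 : ∀ z : hab.sub × huv.sub, ∃ b, F b = g⁻¹ * (z.1 * z.2) * g := by
    rintro ⟨⟨y, hy⟩, ⟨z, hz⟩⟩
    have e : g⁻¹ * (y * z) * g = (g⁻¹ * y * g) * (g⁻¹ * z * g) := by group
    obtain ⟨a1, a2⟩ := hT y hy
    obtain ⟨b1, b2⟩ := hT' z hz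
    refine C.mem_eight hs hR ?_ ?_ ?_
    · change g⁻¹ * (y * z) * g ∈ T
      rw [e]
      exact mul_mem a1 b1
    · change g⁻¹ * (y * z) * g * x = x * (g⁻¹ * (y * z) * g)
      rw [e, mul_assoc, b2, ← mul_assoc, a2, mul_assoc]
    · change g⁻¹ * (y * z) * g * (g⁻¹ * (y * z) * g) = 1
      have h3 : y * z * (y * z) = 1 := by
        calc y * z * (y * z) = y * (z * y) * z := by group
          _ = (y * y) * (z * z) := by rw [← hc y hy z hz]; group
          _ = 1 := by rw [hsq hab y hy, hsq huv z hz, one_mul]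
      calc g⁻¹ * (y * z) * g * (g⁻¹ * (y * z) * g) = g⁻¹ * (y * z * (y * z)) * g := by group
        _ = 1 := by rw [h3]; group
  choose f hf using h1
  have hinj : Function.Injective f := by
    rintro ⟨⟨y, hy⟩, ⟨z, hz⟩⟩ ⟨⟨y', hy'⟩, ⟨z', hz'⟩⟩ h
    have h2 := hf (⟨y, hy⟩, ⟨z, hz⟩)
    rw [h, hf] at h2
    have h3 : y' * z' = y * z := by
      have h4 := mul_left_cancel (mul_right_cancel h2)
      exact h4
    have h5 : y⁻¹ * y' = z * z'⁻¹ := by
      calc y⁻¹ * y' = y⁻¹ * (y' * z') * z'⁻¹ := by group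
        _ = _ := by rw [h3]; group
    have h6 : y⁻¹ * y' ∈ hab.sub ⊓ huv.sub := by
      rw [mem_inf]
      refine ⟨hab.sub.mul_mem (hab.sub.inv_mem hy) hy', ?_⟩
      rw [h5]
      exact huv.sub.mul_mem hz (huv.sub.inv_mem hz')
    rw [hd, mem_bot] at h6
    have h7 : y = y' := by rwa [inv_mul_eq_one] at h6
    subst h7
    have h8 : z' = z := mul_left_cancel h3
    subst h8
    rfl
  have h2 := Nat.card_le_card_of_injective f hinj
  rw [Nat.card_prod] at h2
  have h4 : Nat.card (Bool × Bool × Bool) = 8 := by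
    rw [Nat.card_eq_fintype_card]; rfl
  have h5 := Nat.mul_le_mul (four_le_card hab) (four_le_card huv)
  omega

/-- `C(x)` has no elementary abelian subgroup of order 16 -/
theorem no_E16 [Finite G] (C : Cfg a x d r L T Q P) (hs : Cfg.IsS x d P s) (hR : Cfg.One x a Q)
    (hsyl : ∀ U : Subgroup G, IsPGroup 2 U → T ⊓ centralizer ({x} : Set G) ≤ U →
      U ≤ centralizer ({x} : Set G) → U ≤ T ⊓ centralizer ({x} : Set G))
    {t u v : G} (htx : Four t x) (huv : Four u v) (h1 : u * x = x * u) (h2 : v * x = x * v)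
    (h3 : u * t = t * u) (h4 : v * t = t * v) (hd : htx.sub ⊓ huv.sub = ⊥) : False := by
  obtain ⟨V, hV⟩ : ∃ V, V = closure ({t, x, u, v} : Set G) := ⟨_, rfl⟩
  have hcomm : ∀ y ∈ ({t, x, u, v} : Set G), ∀ z ∈ ({t, x, u, v} : Set G), y * z = z * y := by
    have e1 := htx.comm
    have e2 := huv.comm
    intro y hy z hz
    simp only [Set.mem_insert_iff, Set.mem_singleton_iff] at hy hz
    rcases hy with rfl | rfl | rfl | rfl <;> rcases hz with rfl | rfl | rfl | rfl <;>
      first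
        | rfl
        | assumption
        | (symm; assumption)
  have hsq : ∀ g ∈ V, g * g = 1 := by
    rw [hV]
    refine UGT.Res.OnePoint.sq_of_closure ?_ hcomm
    intro y hy
    simp only [Set.mem_insert_iff, Set.mem_singleton_iff] at hy
    rcases hy with rfl | rfl | rfl | rfl
    · exact htx.aa
    · exact htx.bb
    · exact huv.aa
    · exact huv.bb
  have hVp : IsPGroup 2 V := by
    rintro ⟨g, hg⟩
    exact ⟨1, Subtype.ext (by
      change g ^ 2 ^ 1 = 1
      rw [pow_one, pow_two]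
      exact hsq g hg)⟩
  have hVx : V ≤ centralizer ({x} : Set G) := by
    rw [hV, closure_le]
    intro y hy
    exact mem_centralizer_singleton_iff.mpr (hcomm y hy x (by simp))
  obtain ⟨g, hg, hgV⟩ := exists_conj (C.Tp.to_le inf_le_left) inf_le_right hsyl hVp hVx
  have hgx : g * x = x * g := mem_centralizer_singleton_iff.mp hg
  have key : ∀ y ∈ V, g⁻¹⁻¹ * y * g⁻¹ ∈ T ∧ g⁻¹⁻¹ * y * g⁻¹ * x = x * (g⁻¹⁻¹ * y * g⁻¹) := by
    intro y hy
    rw [inv_inv]
    exact ⟨(hgV y hy).1, mem_centralizer_singleton_iff.mp (hgV y hy).2⟩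
  have htxV : ∀ y ∈ htx.sub, y ∈ V := by
    have ht : t ∈ V := hV ▸ subset_closure (by simp)
    have hx : x ∈ V := hV ▸ subset_closure (by simp)
    rintro y (rfl | rfl | rfl | rfl)
    · exact one_mem _
    · exact ht
    · exact hx
    · exact V.mul_mem ht hx
  have huvV : ∀ y ∈ huv.sub, y ∈ V := by
    have ht : u ∈ V := hV ▸ subset_closure (by simp)
    have hx : v ∈ V := hV ▸ subset_closure (by simp)
    rintro y (rfl | rfl | rfl | rfl)
    · exact one_mem _
    · exact ht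
    · exact hx
    · exact V.mul_mem ht hx
  refine no_sixteen' C hs hR (g := g⁻¹) htx huv ?_ hd (fun y hy => key y (htxV y hy))
    (fun y hy => key y (huvV y hy))
  intro y hy z hz
  have h5 : V ≤ centralizer (V : Set G) := by
    intro y hy
    rw [mem_centralizer_iff]
    intro z hz
    have e1 := hsq _ (V.mul_mem hz hy)
    have e2 : z * y = (z * y)⁻¹ := eq_inv_of_mul_eq_one_left e1
    rw [e2, mul_inv_rev, inv_eq_of_mul_eq_one_left (hsq y hy),
      inv_eq_of_mul_eq_one_left (hsq z hz)]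
  exact (mem_centralizer_iff.mp (h5 (htxV y hy)) z (huvV z hz)).symm

end

end Cfsg.Agent.UGT.FourA.Top
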