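import Cfsg.Agent.UGT.FourA.Al

/-!
# (al), the form with one bad involution in `⟨a, s⟩`
-/

set_option autoImplicit false

open Cfsg Subgroup
open Cfsg.Agent.SignalizersComponents Cfsg.Agent.Lib
open Cfsg.Agent.SignalizersComponents.IntrinsicBasic
open Cfsg.Agent.Intrinsic.Basic Cfsg.Agent.Intrinsic.Cen Cfsg.Agent.Intrinsic.Diag
open Cfsg.Agent.UGT.Triple Cfsg.Agent.UGT.Iface Cfsg.Agent.UGT.Res.KFacts Cfsg.Agent.UGT.Res.Base
open Cfsg.Agent.UGT.Res.EFacts Cfsg.Agent.UGT.FourA.Hon Cfsg.Agent.UGT.FourA.Top
open Cfsg.Agent.UGT.FourA.Core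
open scoped commutatorElement

namespace Cfsg.Agent.UGT.FourA.Al

universe u

variable {G : Type u} [Group G] [Finite G]

/-- `t` not bad: `O(C(x)) ∩ C(t) = 1` -/
theorem eq_one_of_not_bad {x t e : G} (hx : orderOf x = 2) (ht : orderOf t = 2) (htx : t * x = x * t)
    (hc : core (centralizer ({t} : Set G)) = ⊥) (hnb : ∀ J, ¬ IsTriple x t J)
    (he : e ∈ core (centralizer ({x} : Set G))) (het : e * t = t * e) : e = 1 := by
  by_contra hne
  obtain ⟨J, TJ, -⟩ := exists_triple hx ht htx he (mem_c het) (by rw [hc, mem_bot]; exact hne)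
  exact hnb J TJ

/-- **(al)**, `c = {a}` -/
theorem al_one {X : Subgroup G} {x a s n : G} {L : Subgroup G} (I : Idx X x) (hX : X ≤ commutator G)
    (hmin : ∀ N : Subgroup G, N.Normal → N ≤ X → N ≠ ⊥ → X ≤ N) (H : Pgl G) (hO : OneInv G)
    (hcf : ∀ t ∈ X, orderOf t = 2 → core (centralizer ({t} : Set G)) = ⊥) (Tr : IsTriple x a L)
    (hS : ThE.Base.IsS L x s) (hs : ∀ J, ¬ IsTriple x s J) (has : ∀ J, ¬ IsTriple x (a * s) J)
    (hn : Fixes n L) (hnx : n * x * n⁻¹ = x * a) : False := by
  have haX : a ∈ X := by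
    have h1 := I.comm_mem n x
    rw [commutatorElement_def, hnx] at h1
    have h2 : x * a * x⁻¹ = a := by rw [← Tr.comm]; group
    rwa [h2] at h1
  have hca := hcf a haX Tr.inva
  have hcore : core L = ⊥ := by
    rw [eq_bot_iff, ← hca]
    exact Tr.comp.core_le_core
  have hLX : L ≤ X := I.perfect_le Tr.comp.perfect
  have haa := sq_of_order Tr.inva
  have ha1 := ne_one_of_order Tr.inva
  have hsa : s * a = a * s := comm_c (Tr.comp.le hS.mem)
  obtain ⟨F, _, _, h5, ⟨R⟩⟩ := Res.CfOf.exists_R H Tr hcore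
  have haL : a ∉ L := by
    intro h1
    apply ha1
    exact eq_one_of_mem_centralizer R h1 (mem_centralizer_iff.mpr fun l hl => comm_c (Tr.comp.le hl))
  have hne : a ≠ s := by
    rintro rfl
    exact haL hS.mem
  have hso : orderOf s = 2 := orderOf_eq_prime (by rw [pow_two]; exact hS.sq) hS.ne
  have hasq : a * s * (a * s) = 1 := by
    calc a * s * (a * s) = a * (s * a) * s := by group
      _ = a * a * (s * s) := by rw [hsa]; group
      _ = 1 := by rw [haa, hS.sq, one_mul]
  have has1 : a * s ≠ 1 := by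
    intro h
    apply hne
    rw [eq_inv_of_mul_eq_one_left h, inv_eq_of_mul_eq_one_left hS.sq]
  have haso : orderOf (a * s) = 2 := orderOf_eq_prime (by rw [pow_two]; exact hasq) has1
  have cas : Commute a s := hsa.symm
  have cax : Commute a x := Tr.comm
  have csx : Commute s x := hS.comm
  have hconj : ∀ {b : G}, b * b = 1 → b * x = x * b → ∀ e ∈ core (centralizer ({x} : Set G)),
      b * e * b ∈ core (centralizer ({x} : Set G)) := by
    intro b hb hbx e he
    have h1 := conj_core (H := centralizer ({x} : Set G)) (mem_c hbx) he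
    rwa [inv_eq_of_mul_eq_one_left hb] at h1
  have hmem := LieRecognition.ReeGeneric.le_of_four (M := core (centralizer ({x} : Set G)))
    (A := centralizer ({a} : Set G)) (fun e he => odd_of_core he) (e₁ := a) (e₂ := s) haa hS.sq
    hsa.symm (hconj haa Tr.comm) (hconj hS.sq hS.comm) (fun e he => by
      rw [← comm_c he, mul_assoc, haa, mul_one]) (fun e _ h => mem_c (by
      calc e * a = (a * e * a) * a := by rw [h]
        _ = a * e * (a * a) := by group
        _ = a * e := by rw [haa, mul_one])) (fun e he h => by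
      rw [eq_one_of_not_bad Tr.invx hso hS.comm (hcf s (hLX hS.mem) hso) hs he (by
        calc e * s = (s * e * s) * s := by rw [h]
          _ = s * e * (s * s) := by group
          _ = s * e := by rw [hS.sq, mul_one])]
      exact one_mem _) (fun e he h => by
      rw [eq_one_of_not_bad Tr.invx haso (cax.mul_left csx).eq
        (hcf (a * s) (X.mul_mem haX (hLX hS.mem)) haso) has he (by
        calc e * (a * s) = (a * s * e * (a * s)) * (a * s) := by rw [h]
          _ = a * s * e * (a * s * (a * s)) := by group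
          _ = a * s * e := by rw [hasq, mul_one])]
      exact one_mem _)
  exact al I hX hmin H hO hca Tr (fun e he => comm_c (hmem he)) ((fixes_iff hcore).mp hn) hnx

end Cfsg.Agent.UGT.FourA.Al
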