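import Cfsg.Agent.UGT.Res.EFacts
import Cfsg.Agent.S0208
import Cfsg.Agent.GH.L2AutF
import Cfsg.Agent.TwoFusion.StronglyEmbeddedBasic

/-!
# `L ≅ PSL(2,F)`, `x` of PGL type: the facts used in Theorem 4A
-/

set_option autoImplicit false

open Subgroup Cfsg.Agent.OddHalf.D6 Cfsg.Agent.UGT.Res.EFacts
open Cfsg.Agent.UGT.ThE.Base (IsS)

namespace Cfsg.Agent.UGT.FourA.Facts

variable {G : Type*} [Group G] {L : Subgroup G}
variable {F : Type*} [Field F] [Finite F] {R : GH.L2Aut.Rep F L} {x : G}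

theorem order_two {s : G} (h : s * s = 1) (h1 : s ≠ 1) : orderOf s = 2 :=
  orderOf_eq_prime (by rw [pow_two]; exact h) h1

/-- the involutions of `C_L(x)` are conjugate in `C_L(x)` -/
theorem cls_s [Finite G] (C : Cf R x) {s s' : G} (hs : IsS L x s) (hs' : IsS L x s') :
    ∃ d ∈ L, d * x = x * d ∧ d * s' * d⁻¹ = s := by
  have hmem : ∀ d ∈ closure ({s', s} : Set G), d ∈ L ∧ d * x = x * d := by
    have h1 : closure ({s', s} : Set G) ≤ L ⊓ centralizer ({x} : Set G) := by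
      rw [closure_le]
      rintro y (rfl | rfl)
      · exact ⟨hs'.mem, mem_centralizer_singleton_iff.mpr hs'.comm⟩
      · exact ⟨hs.mem, mem_centralizer_singleton_iff.mpr hs.comm⟩
    exact fun d hd => ⟨(h1 hd).1, mem_centralizer_singleton_iff.mp (h1 hd).2⟩
  by_cases hodd : Odd (orderOf (s' * s))
  · obtain ⟨d, hd, h⟩ := S0208.result s' s (order_two hs'.sq hs'.ne) (order_two hs.sq hs.ne) hodd
    exact ⟨d, (hmem d hd).1, (hmem d hd).2, h⟩
  · obtain ⟨z, hz, hzo, hz1, hz2⟩ := TwoFusion.StronglyEmbeddedBasic.exists_commuting_involution s' s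
      (order_two hs'.sq hs'.ne) (order_two hs.sq hs.ne) (orderOf_pos _) hodd
    obtain ⟨hzL, hzx⟩ := hmem z hz
    have hzS : IsS L x z := ⟨hzL, hzx, by rw [← pow_two, ← hzo, pow_orderOf_eq_one], by
      rintro rfl
      rw [orderOf_one] at hzo
      exact absurd hzo (by norm_num)⟩
    have h1 := C.comm z s' hzS hs' hz1
    have h2 := C.comm z s hzS hs hz2
    refine ⟨1, one_mem _, by rw [one_mul, mul_one], ?_⟩
    rw [← h1, ← h2]
    group

/-- an outer involution of PGL type commuting with `s` is conjugate to `x` under `C_L(s)` -/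
theorem out [Finite G] (C : Cf R x) {s : G} (hs : IsS L x s) {e : G}
    (he : e ∈ normalizer (L : Set G)) (hee : e * e = 1) (hes : e * s = s * e)
    (hf : R.fld (act L e he) = 1) (hn : ∀ l ∈ L, e * l ∉ centralizer (L : Set G)) :
    ∃ l ∈ L, l * s = s * l ∧ l * e * l⁻¹ * x ∈ centralizer (L : Set G) := by
  have hα := act_sq he hee
  have ho : R.o1 (act L e he) = -1 := by
    rcases Int.units_eq_one_or (R.o1 (act L e he)) with ho | ho
    · exfalso
      obtain ⟨⟨v, hv⟩, h2⟩ := R.mem_inn_iff.2 ⟨hf, ho⟩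
      apply hn v⁻¹ (inv_mem hv)
      rw [← act_one_iff' (mul_mem he (le_normalizer (inv_mem hv))),
        ← act_mul he (le_normalizer (inv_mem hv)), act_inv (le_normalizer hv), act_of_mem hv, h2,
        mul_inv_cancel]
    · exact ho
  obtain ⟨h1, h2⟩ := PglType.pgl_of R hα ho
  obtain ⟨h3, h4⟩ := PglType.pgl_of R C.sq (C.o1 C.xN)
  obtain ⟨⟨y, hyL⟩, hy⟩ := R.dtype_conj h1 h2 hα h3 h4 C.sq
  have hyN := le_normalizer hyL
  have h5 : act L (y * e * y⁻¹) (mul_mem (mul_mem hyN he) (inv_mem hyN)) = act L x C.xN := by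
    rw [← hy, ← act_mul (mul_mem hyN he) (inv_mem hyN), ← act_mul hyN he, act_inv hyN,
      act_of_mem hyL]
  have h6 : y * e * y⁻¹ * x ∈ centralizer (L : Set G) := by
    rw [← act_one_iff' (mul_mem (mul_mem (mul_mem hyN he) (inv_mem hyN)) C.xN),
      ← act_mul (mul_mem (mul_mem hyN he) (inv_mem hyN)) C.xN]
    rw [h5, C.sq]
  -- `y s y⁻¹` commutes with `x`
  have hsL : y * s * y⁻¹ ∈ L := mul_mem (mul_mem hyL hs.mem) (inv_mem hyL)
  have hss : y * s * y⁻¹ * (y * s * y⁻¹) = 1 := by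
    calc y * s * y⁻¹ * (y * s * y⁻¹) = y * (s * s) * y⁻¹ := by group
      _ = 1 := by rw [hs.sq]; group
  have hS : IsS L x (y * s * y⁻¹) := by
    refine ⟨hsL, ?_, hss, fun h => hs.ne ?_⟩
    · rw [← act_fix C.xN hsL, ← h5, act_fix]
      calc y * s * y⁻¹ * (y * e * y⁻¹) = y * (s * e) * y⁻¹ := by group
        _ = y * (e * s) * y⁻¹ := by rw [hes]
        _ = y * e * y⁻¹ * (y * s * y⁻¹) := by group
    · calc s = y⁻¹ * (y * s * y⁻¹) * y := by group
        _ = 1 := by rw [h]; group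
  obtain ⟨d, hd, hdx, hds⟩ := cls_s C hs hS
  refine ⟨d * y, mul_mem hd hyL, ?_, ?_⟩
  · have h7 : d * y * s * (d * y)⁻¹ = s := by
      calc d * y * s * (d * y)⁻¹ = d * (y * s * y⁻¹) * d⁻¹ := by group
        _ = s := hds
    calc d * y * s = d * y * s * (d * y)⁻¹ * (d * y) := by group
      _ = s * (d * y) := by rw [h7]
  · have h7 : d * y * e * (d * y)⁻¹ * x = d * (y * e * y⁻¹ * x) * d⁻¹ := by
      have h8 : d⁻¹ * x = x * d⁻¹ := by
        calc d⁻¹ * x = d⁻¹ * (x * d) * d⁻¹ := by group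
          _ = x * d⁻¹ := by rw [← hdx]; group
      calc d * y * e * (d * y)⁻¹ * x = d * (y * e * y⁻¹) * (d⁻¹ * x) := by group
        _ = d * (y * e * y⁻¹ * x) * d⁻¹ := by rw [h8]; group
    rw [h7]
    exact ThE.Base.K_conj (le_normalizer hd) h6

/-- `x` and `xs` are conjugate under `C_L(s)` -/
theorem xs [Finite G] (C : Cf R x) {s : G} (hs : IsS L x s) :
    ∃ p ∈ L, p * s = s * p ∧ p * x * p⁻¹ = x * s := by
  have hsN : s ∈ normalizer (L : Set G) := le_normalizer hs.mem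
  have hxs : x * s * (x * s) = 1 := by
    calc x * s * (x * s) = x * (s * x) * s := by group
      _ = (x * x) * (s * s) := by rw [hs.comm]; group
      _ = 1 := by rw [C.xx, hs.sq, one_mul]
  have hf' : R.fld (act L x C.xN) = 1 :=
    R.mem_PGL_iff_fld.1 (PglType.pgl_of R C.sq (C.o1 C.xN)).1
  obtain ⟨l, hl, hls, hk⟩ := out C hs (mul_mem C.xN hsN) hxs (by
      rw [mul_assoc, hs.sq, ← mul_assoc, hs.comm, mul_assoc, hs.sq]) (by
      rw [← act_mul C.xN hsN, map_mul, hf', one_mul, act_of_mem hs.mem]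
      exact R.mem_PGL_iff_fld.1 (R.conj_mem_PGL _)) (fun l hl h => C.xLK (s * l) (mul_mem hs.mem hl) (by
      rwa [← mul_assoc]))
  have h1 : l * (x * s) * l⁻¹ * x ∈ L := by
    have e : l * (x * s) * l⁻¹ * x = l * (x * (s * l⁻¹) * x⁻¹) * (x * x) := by group
    rw [e, C.xx, mul_one]
    exact mul_mem hl ((mem_normalizer_iff.mp C.xN _).mp (mul_mem hs.mem (inv_mem hl)))
  have h2 := eq_one_of_mem_centralizer R h1 hk
  have h3 : l * (x * s) * l⁻¹ = x := by
    calc l * (x * s) * l⁻¹ = l * (x * s) * l⁻¹ * x * x⁻¹ := by group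
      _ = x⁻¹ := by rw [h2, one_mul]
      _ = x := inv_eq_of_mul_eq_one_left C.xx
  refine ⟨l⁻¹, inv_mem hl, ?_, ?_⟩
  · calc l⁻¹ * s = l⁻¹ * (s * l) * l⁻¹ := by group
      _ = s * l⁻¹ := by rw [← hls]; group
  · calc l⁻¹ * x * l⁻¹⁻¹ = l⁻¹ * (l * (x * s) * l⁻¹) * l := by rw [h3]; group
      _ = x * s := by group

/-- all involutions of `L` are conjugate -/
theorem invL (R : GH.L2Aut.Rep F L) {s i : G} (hs : s ∈ L) (hss : s * s = 1) (hs1 : s ≠ 1) (hi : i ∈ L)
    (hii : i * i = 1) (hi1 : i ≠ 1) : ∃ l ∈ L, l * i * l⁻¹ = s := by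
  obtain ⟨⟨l, hl⟩, h⟩ := R.inv_conj (s := ⟨i, hi⟩) (t := ⟨s, hs⟩) (Subtype.ext hii)
    (fun h => hi1 (congrArg Subtype.val h)) (Subtype.ext hss) (fun h => hs1 (congrArg Subtype.val h))
  exact ⟨l, hl, congrArg Subtype.val h⟩

theorem nab (R : GH.L2Aut.Rep F L) : ¬ ∀ l ∈ L, l ∈ centralizer (L : Set G) := by
  intro h
  refine not_comm R fun a b => Subtype.ext ?_
  exact mem_centralizer_iff.mp (h b b.2) a a.2

theorem big (R : GH.L2Aut.Rep F L) (hF : 5 ≤ Nat.card F) : 27 < Nat.card L := by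
  have h1 := R.card_mul_two
  have h2 : 5 * (5 ^ 2 - 1) ≤ Nat.card F * (Nat.card F ^ 2 - 1) := by
    apply Nat.mul_le_mul hF
    have := Nat.pow_le_pow_left hF 2
    omega
  omega

end Cfsg.Agent.UGT.FourA.Facts
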