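import Cfsg.Agent.UGT.FourA.Core
import Cfsg.Agent.UGT.FourA.Facts

/-!
# Theorem 4A, steps (1), (2), (4), (6)
-/

set_option autoImplicit false

open Cfsg Subgroup
open Cfsg.Agent.SignalizersComponents Cfsg.Agent.Lib
open Cfsg.Agent.SignalizersComponents.IntrinsicBasic
open Cfsg.Agent.Intrinsic.Basic Cfsg.Agent.Intrinsic.Cen Cfsg.Agent.Intrinsic.Diag
open Cfsg.Agent.UGT.Triple Cfsg.Agent.UGT.Iface Cfsg.Agent.UGT.Res.KFacts Cfsg.Agent.UGT.Res.Base
open Cfsg.Agent.UGT.Res.EFacts Cfsg.Agent.UGT.FourA.Hon Cfsg.Agent.UGT.FourA.Top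
open Cfsg.Agent.UGT.FourA.Core
open Cfsg.Agent.GH.L2Aut Cfsg.Agent.UGT.RankOneR
open scoped commutatorElement

namespace Cfsg.Agent.UGT.FourA.Zst

universe u

variable {G : Type u} [Group G] [Finite G]

/-- the Z*-theorem in a subgroup -/
theorem zstar_sub {H S : Subgroup G} (hS : IsPGroup 2 S) (hSH : S ≤ H)
    (hmax : ∀ U : Subgroup G, IsPGroup 2 U → S ≤ U → U ≤ H → U ≤ S) {a : G} (ha : orderOf a = 2)
    (haS : a ∈ S) (hiso : ∀ g ∈ H, g * a * g⁻¹ ∈ S → g * a * g⁻¹ = a) :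
    ∀ g ∈ H, a * g * a⁻¹ * g⁻¹ ∈ core H := by
  have h2 : Fact (Nat.Prime 2) := ⟨Nat.prime_two⟩
  obtain ⟨P, hP⟩ := (hS.comap_of_injective (H := S) H.subtype H.subtype_injective).exists_le_sylow
  have hPS : (P : Subgroup H) = S.subgroupOf H := by
    apply le_antisymm _ hP
    intro s hs
    have h3 := hmax ((P : Subgroup H).map H.subtype) (P.2.map _)
      (fun t ht => ⟨⟨t, hSH ht⟩, hP ht, rfl⟩) (map_subtype_le _)
    exact h3 ⟨s, hs, rfl⟩
  have haP : (⟨a, hSH haS⟩ : H) ∈ P := by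
    change _ ∈ (P : Subgroup H)
    rw [hPS]
    exact haS
  obtain ⟨N, hN, hodd, hc⟩ := S0215.result P ⟨a, hSH haS⟩ (by rw [Subgroup.orderOf_mk]; exact ha) haP
    (by
      intro g hg
      change _ ∈ (P : Subgroup H) at hg
      rw [hPS] at hg
      exact Subtype.ext (hiso g g.2 hg))
  have hNcore : N.map H.subtype ≤ core H := by
    refine le_core (map_subtype_le _) ?_ ?_
    · intro h hh
      rw [mem_normalizer_iff]
      have key : ∀ k ∈ H, ∀ y ∈ N.map H.subtype, k * y * k⁻¹ ∈ N.map H.subtype := by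
        rintro k hk _ ⟨y, hy, rfl⟩
        exact ⟨⟨k, hk⟩ * y * ⟨k, hk⟩⁻¹, hN.conj_mem y hy ⟨k, hk⟩, rfl⟩
      intro y
      refine ⟨key h hh y, fun hy => ?_⟩
      have h3 := key h⁻¹ (H.inv_mem hh) _ hy
      have h4 : h⁻¹ * (h * y * h⁻¹) * h⁻¹⁻¹ = y := by group
      rwa [h4] at h3
    · rw [Subgroup.card_map_of_injective H.subtype_injective]
      exact hodd
  intro g hg
  exact hNcore ⟨_, hc ⟨g, hg⟩, rfl⟩

/-- Burnside's lemma on central elements of a Sylow group -/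
theorem burnside {T : Subgroup G} (hT : IsPGroup 2 T)
    (hmax : ∀ U : Subgroup G, IsPGroup 2 U → T ≤ U → U ≤ T) {u v g : G}
    (hu : ∀ t ∈ T, t * u = u * t) (hv : ∀ t ∈ T, t * v = v * t) (h : g * u * g⁻¹ = v) :
    ∃ n : G, (∀ t ∈ T, n * t * n⁻¹ ∈ T) ∧ (∀ t ∈ T, n⁻¹ * t * n ∈ T) ∧ n * u * n⁻¹ = v := by
  have h2 : Fact (Nat.Prime 2) := ⟨Nat.prime_two⟩
  obtain ⟨P, hP⟩ := hT.exists_le_sylow
  have hPT : T = (P : Subgroup G) := le_antisymm hP (hmax P P.2 hP)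
  obtain ⟨n, hn, h3⟩ := P.conj_eq_normalizer_conj_of_mem_centralizer u g⁻¹ (by
      rw [mem_centralizer_iff]
      intro t ht
      exact hu t (by rw [hPT]; exact ht)) (by
      rw [mem_centralizer_iff]
      intro t ht
      rw [inv_inv, h]
      exact hv t (by rw [hPT]; exact ht))
  have hnT : ∀ m ∈ normalizer ((P : Subgroup G) : Set G), ∀ t ∈ T, m * t * m⁻¹ ∈ T := by
    intro m hm t ht
    rw [hPT] at ht ⊢
    exact (mem_normalizer_iff.mp hm t).mp ht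
  refine ⟨n⁻¹, hnT _ (inv_mem hn), fun t ht => ?_, ?_⟩
  · rw [inv_inv]
    exact hnT n hn t ht
  · rw [inv_inv, ← h3, inv_inv, h]

/-- the group `A ∪ Ax` -/
def ext (A : Subgroup G) {x : G} (hx : x * x = 1) (hA : ∀ q ∈ A, x * q * x⁻¹ ∈ A) : Subgroup G where
  carrier := {t | t ∈ A ∨ t * x ∈ A}
  one_mem' := Or.inl A.one_mem
  mul_mem' := by
    have hxi : x⁻¹ = x := inv_eq_of_mul_eq_one_left hx
    rintro t u (ht | ht) (hu | hu)
    · exact Or.inl (A.mul_mem ht hu)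
    · right
      rw [mul_assoc]
      exact A.mul_mem ht hu
    · right
      have e : t * u * x = t * x * (x * u * x⁻¹) := by
        calc t * u * x = t * 1 * u * x := by group
          _ = t * (x * x) * u * x := by rw [hx]
          _ = t * x * (x * u * x⁻¹) := by rw [hxi]; group
      rw [e]
      exact A.mul_mem ht (hA u hu)
    · left
      have e : t * u = t * x * (x * (u * x) * x⁻¹) := by
        calc t * u = t * 1 * u := by group
          _ = t * (x * x) * u := by rw [hx]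
          _ = t * x * (x * (u * x) * x⁻¹) := by group
      rw [e]
      exact A.mul_mem ht (hA _ hu)
  inv_mem' := by
    have hxi : x⁻¹ = x := inv_eq_of_mul_eq_one_left hx
    rintro t (ht | ht)
    · exact Or.inl (A.inv_mem ht)
    · right
      have e : t⁻¹ * x = x * (t * x)⁻¹ * x⁻¹ := by
        calc t⁻¹ * x = 1 * t⁻¹ * x := by group
          _ = (x * x) * t⁻¹ * x := by rw [hx]
          _ = x * (t * x)⁻¹ * x⁻¹ := by rw [mul_inv_rev, hxi]; group
      rw [e]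
      exact hA _ (A.inv_mem ht)

omit [Finite G] in
theorem mem_ext {A : Subgroup G} {x : G} (hx : x * x = 1) (hA : ∀ q ∈ A, x * q * x⁻¹ ∈ A) {t : G} :
    t ∈ ext A hx hA ↔ t ∈ A ∨ t * x ∈ A := Iff.rfl

section cfg

variable {a x d r : G} {L T Q P : Subgroup G} {s : G}

/-- **(2)** `x ~ xa` -/
theorem hxa (C : Cfg a x d r L T Q P) (hR : Cfg.One x a Q) {q₀ : G} (hq₀ : q₀ ∈ Q)
    (hne : q₀ * x ≠ x * q₀) : ∃ g : G, g * x * g⁻¹ = x * a := by
  have hxi : x⁻¹ = x := inv_eq_of_mul_eq_one_left C.x2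
  obtain ⟨A, hA⟩ : ∃ A, A = Q ⊓ centralizer ({x} : Set G) := ⟨_, rfl⟩
  have hAx : ∀ q ∈ A, q ∈ Q ∧ q * x = x * q := fun q hq => by
    rw [hA] at hq
    exact ⟨hq.1, mem_centralizer_singleton_iff.mp hq.2⟩
  have hAm : ∀ q ∈ Q, q * x = x * q → q ∈ A := fun q hq h => by
    rw [hA]
    exact ⟨hq, mem_centralizer_singleton_iff.mpr h⟩
  have hA1 : ∀ q ∈ A, x * q * x⁻¹ ∈ A := by
    intro q hq
    rw [← (hAx q hq).2, mul_inv_cancel_right]
    exact hq
  have hQ1 : ∀ q ∈ Q, x * q * x⁻¹ ∈ Q := fun q hq => C.Qconj C.xT hq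
  obtain ⟨U, hU⟩ : ∃ U, U = ext A C.x2 hA1 := ⟨_, rfl⟩
  obtain ⟨V, hV⟩ : ∃ V, V = ext Q C.x2 hQ1 := ⟨_, rfl⟩
  have hUm : ∀ t, t ∈ U ↔ t ∈ A ∨ t * x ∈ A := fun t => by rw [hU]; rfl
  have hVm : ∀ t, t ∈ V ↔ t ∈ Q ∨ t * x ∈ Q := fun t => by rw [hV]; rfl
  have hUV : U ≤ V := fun t ht => (hVm t).mpr (((hUm t).mp ht).imp (fun h => (hAx _ h).1)
    fun h => (hAx _ h).1)
  have hVT : V ≤ T := by
    intro t ht
    rcases (hVm t).mp ht with h | h
    · exact C.QT h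
    · have h1 := mul_mem (C.QT h) C.xT
      rwa [mul_assoc, C.x2, mul_one] at h1
  have hVU : ¬ V ≤ U := by
    intro h
    rcases (hUm q₀).mp (h ((hVm q₀).mpr (Or.inl hq₀))) with h1 | h1
    · exact hne (hAx _ h1).2
    · have h2 := (hAx _ h1).2
      apply hne
      rw [mul_assoc, C.x2, mul_one, ← mul_assoc] at h2
      calc q₀ * x = x * q₀ * x * x := by rw [← h2]
        _ = x * q₀ := by rw [mul_assoc, C.x2, mul_one]
  obtain ⟨y, hyV, hyU, hn, -⟩ := exists_norm (C.Tp.to_le hVT) hUV hVU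
  have hxU : x ∈ U := (hUm x).mpr (Or.inr (by rw [C.x2]; exact one_mem _))
  obtain ⟨n, hnQ, hnU, hnx⟩ : ∃ n ∈ Q, n ∉ U ∧ n * x * n⁻¹ ∈ U := by
    rcases (hVm y).mp hyV with h | h
    · exact ⟨y, h, hyU, hn x hxU⟩
    · refine ⟨y * x, h, fun h1 => hyU ?_, ?_⟩
      · have h2 := mul_mem h1 hxU
        rwa [mul_assoc, C.x2, mul_one] at h2
      · have h2 : y * x * x * (y * x)⁻¹ = y * x * y⁻¹ := by group
        rw [h2]
        exact hn x hxU
  rcases (hUm _).mp hnx with h | h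
  · exfalso
    have h1 := (hAx _ h).1
    have h2 : x ∈ Q := by
      have h3 : x = n⁻¹ * (n * x * n⁻¹) * n := by group
      rw [h3]
      exact mul_mem (mul_mem (inv_mem hnQ) h1) hnQ
    exact C.x_not_qp h2 (one_mem _) (by rw [mul_one])
  · obtain ⟨ρ, hρ⟩ : ∃ ρ, ρ = n * x * n⁻¹ * x := ⟨_, rfl⟩
    rw [← hρ] at h
    obtain ⟨hρQ, hρx⟩ := hAx _ h
    have h1 : n * x * n⁻¹ = ρ * x := by rw [hρ, mul_assoc (n * x * n⁻¹) x x, C.x2, mul_one]
    have h2 : ρ * ρ = 1 := by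
      have h3 : n * x * n⁻¹ * (n * x * n⁻¹) = 1 := by
        calc n * x * n⁻¹ * (n * x * n⁻¹) = n * (x * x) * n⁻¹ := by group
          _ = 1 := by rw [C.x2]; group
      rw [h1] at h3
      calc ρ * ρ = ρ * (ρ * (x * x)) := by rw [C.x2, mul_one]
        _ = ρ * (ρ * x) * x := by group
        _ = ρ * (x * ρ) * x := by rw [hρx]
        _ = ρ * x * (ρ * x) := by group
        _ = 1 := h3
    rcases hR ρ hρQ hρx h2 with h3 | h3
    · exfalso
      rw [h3, one_mul] at h1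
      apply hnU
      refine (hUm n).mpr (Or.inl (hAm n hnQ ?_))
      calc n * x = n * x * n⁻¹ * n := by group
        _ = x * n := by rw [h1]
    · exact ⟨n, by rw [h1, h3, C.a_comm C.xT]⟩

end cfg

end Cfsg.Agent.UGT.FourA.Zst
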