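import Cfsg.Agent.UGT.Res.EFacts
import Cfsg.Agent.UGT.Res.KFacts

/-!
# Honest components of type `PSL(2,F)`

`tr R e`: transport of a `Rep` along an isomorphism. `exists_cf`: for a triple `(x, a, L)` with `O(L) = 1` a `Rep` of `L`
itself, on which `x` is of PGL type; `NoFld`: no 2-element of `C(a) ∩ N(L)` is of field type.
`sq_of_two`: a 2-element of PGL type commuting with `x` has square one in `Aut L`.
-/

set_option autoImplicit false
set_option linter.dupNamespace false

open Cfsg Subgroup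
open Cfsg.Agent.SignalizersComponents Cfsg.Agent.Lib
open Cfsg.Agent.SignalizersComponents.IntrinsicBasic
open Cfsg.Agent.Intrinsic.Basic
open Cfsg.Agent.UGT.Triple Cfsg.Agent.UGT.Iface Cfsg.Agent.UGT.Res.KFacts
open Cfsg.Agent.UGT.Res.EFacts


namespace Cfsg.Agent.UGT.FourA.Hon

universe u

section transport

variable {F : Type*} [Field F] {K K' : Type*} [Group K] [Group K']

/-- transport of a `Rep` -/
noncomputable def tr (R : GH.L2Aut.Rep F K) (e : K ≃* K') : GH.L2Aut.Rep F K' where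
  π := e.toMonoidHom.comp R.π
  surj := e.surjective.comp R.surj
  ker x := by
    change e (R.π x) = 1 ↔ _
    rw [MulEquiv.map_eq_one_iff]
    exact R.ker x
  two := R.two

variable (R : GH.L2Aut.Rep F K) (e : K ≃* K')

theorem tr_π (x : Matrix.SpecialLinearGroup (Fin 2) F) : (tr R e).π x = e (R.π x) := rfl

theorem congr_apply (α : MulAut K) (y : K) : MulAut.congr e α (e y) = e (α y) := by
  change e (α (e.symm (e y))) = _
  rw [e.symm_apply_apply]

variable [Finite F]

theorem tr_gl (g : GL (Fin 2) F) : (tr R e).gl g = MulAut.congr e (R.gl g) :=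
  (tr R e).ext_π fun x => by rw [GH.L2Aut.Rep.gl_apply, tr_π, tr_π, congr_apply, GH.L2Aut.Rep.gl_apply]

theorem tr_fa (σ : F ≃+* F) : (tr R e).fa σ = MulAut.congr e (R.fa σ) :=
  (tr R e).ext_π fun x => by rw [GH.L2Aut.Rep.fa_apply, tr_π, tr_π, congr_apply, GH.L2Aut.Rep.fa_apply]

theorem tr_o1_fld (α : MulAut K) : (tr R e).o1 (MulAut.congr e α) = R.o1 α ∧
    (tr R e).fld (MulAut.congr e α) = R.fld α := by
  obtain ⟨g, hg⟩ := R.exists_eq α
  obtain ⟨σ, hσ⟩ : ∃ σ, σ = R.fld α := ⟨_, rfl⟩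
  rw [← hσ] at hg ⊢
  have h1 : MulAut.congr e α = (tr R e).gl g * (tr R e).fa σ := by
    rw [hg, map_mul, tr_gl, tr_fa]
  constructor
  · rw [(tr R e).o1_eq h1, R.o1_eq hg]
  · rw [h1, map_mul, GH.L2Aut.Rep.fld_gl, GH.L2Aut.Rep.fld_fa, one_mul]

end transport

variable {G : Type u} [Group G]

theorem oddCore_eq_bot {L : Subgroup G} (h : core L = ⊥) : oddCore ↥L = ⊥ := by
  rw [core, Subgroup.map_eq_bot_iff_of_injective _ L.subtype_injective] at h
  exact h

/-- `L / O(L) ≅ L` -/
noncomputable def barEquiv {L : Subgroup G} (h : core L = ⊥) : Bar L ≃* ↥L :=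
  (MulEquiv.ofBijective (QuotientGroup.mk' (oddCore ↥L)) ⟨by
    rw [← MonoidHom.ker_eq_bot_iff, QuotientGroup.ker_mk']
    exact oddCore_eq_bot h, QuotientGroup.mk'_surjective _⟩).symm

theorem barEquiv_mk {L : Subgroup G} (h : core L = ⊥) (l : ↥L) :
    barEquiv h (QuotientGroup.mk l) = l :=
  MulEquiv.symm_apply_apply (MulEquiv.ofBijective (QuotientGroup.mk' (oddCore ↥L)) _) l

theorem congr_act {L : Subgroup G} (h : core L = ⊥) {t : G} (ht : t ∈ normalizer (L : Set G)) :
    MulAut.congr (barEquiv h) (McLLyComp.Act.act L ⟨t, ht⟩) = OddHalf.D6.act L t ht := by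
  ext l
  have h1 : MulAut.congr (barEquiv h) (McLLyComp.Act.act L ⟨t, ht⟩) l =
      OddHalf.D6.act L t ht l := by
    have h2 := congr_apply (barEquiv h) (McLLyComp.Act.act L ⟨t, ht⟩) (QuotientGroup.mk l)
    rw [barEquiv_mk] at h2
    rw [h2]
    exact barEquiv_mk h _
  exact congrArg Subtype.val h1

/-- `O(L) = 1`: fixing `L` is centralizing `L` -/
theorem fixes_iff {L : Subgroup G} (h : core L = ⊥) {t : G} :
    Fixes t L ↔ t ∈ centralizer (L : Set G) := by
  constructor
  · rintro ⟨-, h2⟩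
    rw [mem_centralizer_iff]
    intro y hy
    have h3 := h2 y hy
    rw [h, mem_bot, commutatorElement_eq_one_iff_mul_comm] at h3
    exact h3.symm
  · intro h1
    have h2 := mem_centralizer_iff.mp h1
    refine ⟨?_, fun y hy => ?_⟩
    · rw [mem_normalizer_iff]
      have key : ∀ y ∈ L, t * y * t⁻¹ = y := fun y hy => by
        rw [← h2 y hy, mul_inv_cancel_right]
      intro y
      refine ⟨fun hy => by rw [key y hy]; exact hy, fun hy => ?_⟩
      have h3 := h2 _ hy
      have h4 : t * y * t⁻¹ = y := by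
        have h5 : t * y * t⁻¹ * t = t * (t * y * t⁻¹) := h3
        rw [inv_mul_cancel_right] at h5
        exact (mul_left_cancel h5).symm
      rw [← h4]
      exact hy
    · rw [commutatorElement_eq_one_iff_mul_comm.mpr (h2 y hy).symm]
      exact one_mem _

/-- no 2-element of `C(a) ∩ N(L)` is of field type, `(x, a, L)` a triple -/
def NoFld (G : Type u) [Group G] : Prop := ∀ (x a : G) (L : Subgroup G), IsTriple x a L →
  ∀ (F : Type) [Field F] [Finite F] (R : GH.L2Aut.Rep F (Bar L)) (t : G) (ht : t ∈ normalizer (L : Set G)),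
    t ∈ centralizer ({a} : Set G) → (∃ n, t ^ 2 ^ n = 1) → McLLyComp.Act.act L ⟨t, ht⟩ ∈ R.PGL

/-- `a` is the only involution of `C_{C(a) ∩ C(x)}(L / O(L))`, for all triples `(x, a, L)` -/
def OneInv (G : Type u) [Group G] : Prop := ∀ (x a : G) (L : Subgroup G), IsTriple x a L →
  ∀ b : G, b * b = 1 → b * a = a * b → b * x = x * b → Fixes b L → b = 1 ∨ b = a

/-- an honest triple -/
structure Hon (x a : G) (L : Subgroup G) {F : Type} [Field F] [Finite F] (R : GH.L2Aut.Rep F ↥L) : Prop where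
  core : core L = ⊥
  big : 5 ≤ Nat.card F
  cf : Cf R x
  nf : ∀ (t : G) (ht : t ∈ normalizer (L : Set G)), t * a = a * t → (∃ n, t ^ 2 ^ n = 1) →
    R.fld (OddHalf.D6.act L t ht) = 1

theorem exists_hon [Finite G] (H : Pgl G) (hN : NoFld G) {x a : G} {L : Subgroup G}
    (T : IsTriple x a L) (hc : core L = ⊥) :
    ∃ (F : Type) (_ : Field F) (_ : Finite F) (R : GH.L2Aut.Rep F ↥L), Hon x a L R := by
  obtain ⟨F, i1, i2, h5, R, ho⟩ := H.exists_rep T
  refine ⟨F, i1, i2, tr R (barEquiv hc), hc, h5, ⟨sq_of_order T.invx, T.x_mem, fun h => ?_⟩, ?_⟩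
  · rw [← congr_act hc, (tr_o1_fld R (barEquiv hc) _).1]
    exact ho
  · intro t ht hta h2
    rw [← congr_act hc, (tr_o1_fld R (barEquiv hc) _).2]
    exact R.mem_PGL_iff_fld.1 (hN x a L T F R t ht (mem_c hta) h2)

/-- a 2-element of PGL type commuting with an involution of PGL type has square one -/
theorem sq_of_two {F : Type*} [Field F] [Finite F] {K : Type*} [Group K] (R : GH.L2Aut.Rep F K)
    {α φ : MulAut K} (hα : α * α = 1) (ho : R.o1 α = -1) (hφ : ∃ n, φ ^ 2 ^ n = 1)
    (hf : R.fld φ = 1) (hc : φ * α = α * φ) : φ * φ = 1 := by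
  obtain ⟨B, -, -, h2, h3, -⟩ := OddHalf.D6.PglType.fix_data R hα ho
  -- an inner 2-element commuting with `α`
  have key : ∀ ψ : MulAut K, (∃ n, ψ ^ 2 ^ n = 1) → R.fld ψ = 1 → R.o1 ψ = 1 →
      ψ * α = α * ψ → ψ * ψ = 1 := by
    intro ψ hψ hψf hψo hψα
    obtain ⟨b, rfl⟩ := R.mem_inn_iff.2 ⟨hψf, hψo⟩
    have hb : α b = b := R.conj_injective (GH.L2Aut.Rep.conj_comm_iff.mp hψα)
    rcases h3 b hb with h4 | ⟨h4, -⟩
    · have h5 : b = 1 := by
        obtain ⟨n, hn⟩ := hψ
        have h6 : b ^ 2 ^ n = 1 := R.conj_injective (by rw [map_pow, hn, map_one])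
        clear hn
        induction n with
        | zero => rwa [pow_zero, pow_one] at h6
        | succ n ih =>
          apply ih
          apply h2 _ (B.pow_mem h4 _)
          rw [← pow_add, ← two_mul, ← pow_succ']
          exact h6
      rw [h5, map_one, one_mul]
    · rw [← map_mul, h4, map_one]
  rcases Int.units_eq_one_or (R.o1 φ) with h4 | h4
  · exact key φ hφ hf h4 hc
  · have hαf : R.fld α = 1 := R.mem_PGL_iff_fld.1 (OddHalf.D6.PglType.pgl_of R hα ho).1
    have h5 : φ * α * (φ * α) = φ * φ := by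
      calc φ * α * (φ * α) = φ * (α * φ) * α := by group
        _ = φ * (φ * α) * α := by rw [hc]
        _ = φ * φ * (α * α) := by group
        _ = φ * φ := by rw [hα, mul_one]
    rw [← h5]
    apply key
    · obtain ⟨n, hn⟩ := hφ
      refine ⟨n + 1, ?_⟩
      have h6 : (φ * α) ^ 2 ^ (n + 1) = (φ * α * (φ * α)) ^ 2 ^ n := by
        rw [← pow_two, ← pow_mul, ← pow_succ']
      have h7 : (φ * φ) ^ 2 ^ n = (φ ^ 2 ^ n) ^ 2 := by
        rw [← pow_two, ← pow_mul, ← pow_mul, mul_comm]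
      rw [h6, h5, h7, hn, one_pow]
    · rw [map_mul, hf, hαf, one_mul]
    · rw [map_mul, h4, ho]; decide
    · rw [hc, ← hc, ← mul_assoc, hc]

end Cfsg.Agent.UGT.FourA.Hon
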