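import Cfsg.Agent.UGT.FourA.Delta

/-!
# Theorem 4A, III: `C(as) ≤ C(a)`, `C(s) ≤ N(L)`, the end
-/

set_option autoImplicit false

open Subgroup

namespace Cfsg.Agent.UGT.FourA.Basic

open Cfsg.Agent.UGT.ThE Cfsg.Agent.UGT.ThE.Base

variable {G : Type*} [Group G]

/-- `v ∈ C_K(a)`, `v² = 1`, `vˣ = va` -/
structure IsV (L : Subgroup G) (x a v : G) : Prop where
  mK : v ∈ centralizer (L : Set G)
  ca : v * a = a * v
  sq : v * v = 1
  cx : x * v * x⁻¹ = v * a

namespace Hyp

open Hyp0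

variable {X L : Subgroup G} {x a s : G} (H : Hyp X L x a s)
include H

theorem v1 {v : G} (hv : IsV L x a v) : v ≠ 1 := by
  rintro rfl
  have := hv.cx
  apply H.a1
  rw [one_mul] at this
  rw [← this]; group

theorem sK : s ∉ centralizer (L : Set G) := fun h => H.s1 (H.disj H.sL h)

/-- the element `va` -/
theorem isV_mul {v : G} (hv : IsV L x a v) : IsV L x a (v * a) where
  mK := mul_mem hv.mK H.aK
  ca := mul_comm' hv.ca rfl
  sq := sq_mul hv.sq H.aa hv.ca
  cx := by rw [cj_mul, hv.cx, cj_eq_of_comm H.xa]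

theorem x_vs {v : G} (hv : IsV L x a v) : x * (v * s) * x⁻¹ = v * a * s := by
  rw [cj_mul, hv.cx, cj_eq_of_comm H.sx.symm]

/-- two `v`'s -/
theorem two_v {v w : G} (hv : IsV L x a v) (hw : IsV L x a w) (h : v * w = w * v) :
    w = v ∨ w = v * a := by
  have h1 : v * w * x = x * (v * w) := by
    have h2 : x * (v * w) * x⁻¹ = v * w := by
      rw [cj_mul, hv.cx, hw.cx]
      calc v * a * (w * a) = v * (a * w) * a := by group
        _ = v * w * (a * a) := by rw [← hw.ca]; group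
        _ = v * w := by rw [H.aa, mul_one]
    exact (comm_of_cj_eq h2).symm
  rcases H.star (v * w) (mul_mem hv.mK hw.mK) (mul_comm' hv.ca hw.ca) h1 (sq_mul hv.sq hw.sq h)
    with h2 | h2
  · left
    rw [eq_inv_of_mul_eq_one_right h2, inv_eq_of_mul_eq_one_left hv.sq]
  · right
    calc w = (v * v) * w := by rw [hv.sq, one_mul]
      _ = v * (v * w) := by group
      _ = v * a := by rw [h2]

/-- **trichotomy** for `a^{C(t₀)}` -/
theorem tri [Finite G] {t₀ : G} (h : T0 a s t₀) :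
    (∀ m, m * t₀ = t₀ * m → m * a * m⁻¹ = a) ∨
    (∃ v, IsV L x a v ∧ (∃ m, m * t₀ = t₀ * m ∧ m * a * m⁻¹ = v) ∧
      ∀ m, m * t₀ = t₀ * m → m * a * m⁻¹ = a ∨ m * a * m⁻¹ = v ∨ m * a * m⁻¹ = v * a) ∨
    (∃ v, IsV L x a v ∧ (∃ m, m * t₀ = t₀ * m ∧ m * a * m⁻¹ = v * s) ∧
      ∀ m, m * t₀ = t₀ * m →
        m * a * m⁻¹ = a ∨ m * a * m⁻¹ = v * s ∨ m * a * m⁻¹ = v * a * s) := by
  by_cases hA : ∀ m, m * t₀ = t₀ * m → m * a * m⁻¹ = a
  · exact Or.inl hA
  right
  push Not at hA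
  obtain ⟨m₀, hm₀, hne⟩ := hA
  obtain ⟨v, hvK, hva, hvv, hvx, hb₀⟩ := (H.ten h hm₀).resolve_left hne
  have hv : IsV L x a v := ⟨hvK, hva, hvv, hvx⟩
  have hxt : x * t₀ = t₀ * x := (T0.comm_x H.toHyp0 h).symm
  -- other elements
  have key : ∀ m, m * t₀ = t₀ * m → m * a * m⁻¹ ≠ a → ∃ w, IsV L x a w ∧ (w = v ∨ w = v * a) ∧
      (m * a * m⁻¹ = w ∨ m * a * m⁻¹ = w * s) := by
    intro m hm hme
    obtain ⟨w, hwK, hwa, hww, hwx, hb⟩ := (H.ten h hm).resolve_left hme
    have hw : IsV L x a w := ⟨hwK, hwa, hww, hwx⟩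
    refine ⟨w, hw, H.two_v hv hw ?_, hb⟩
    have hc := H.nine' h hm₀ hm
    have c1 : s * w = w * s := comm_of_mem H.sL hwK
    have c2 : s * v = v * s := comm_of_mem H.sL hvK
    rcases hb₀ with e1 | e1 <;> rcases hb with e2 | e2 <;> rw [e1, e2] at hc
    · exact hc
    · apply mul_right_cancel (b := s)
      calc v * w * s = v * (w * s) := by group
        _ = w * s * v := hc
        _ = w * v * s := by rw [mul_assoc, c2]; group
    · apply mul_right_cancel (b := s)
      calc v * w * s = v * (s * w) := by rw [c1]; group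
        _ = v * s * w := by group
        _ = w * (v * s) := hc
        _ = w * v * s := by group
    · apply mul_right_cancel (b := s * s)
      calc v * w * (s * s) = v * (w * s) * s := by group
        _ = v * (s * w) * s := by rw [c1]
        _ = v * s * (w * s) := by group
        _ = w * s * (v * s) := hc
        _ = w * (s * v) * s := by group
        _ = w * v * (s * s) := by rw [c2]; group
  -- `w t₀ ∉ Δ` in terms of `s`
  have hts : ∀ w, IsV L x a w → (w * t₀ = w * s ∨ w * t₀ = w * a * s) := by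
    intro w _
    rcases h with rfl | rfl
    · exact Or.inl rfl
    · right; group
  rcases hb₀ with e1 | e1
  · left
    refine ⟨v, hv, ⟨m₀, hm₀, e1⟩, fun m hm => ?_⟩
    by_cases hme : m * a * m⁻¹ = a
    · exact Or.inl hme
    right
    -- both `v` and `va` are in the class
    have cv : ∀ w, (w = v ∨ w = v * a) → ∃ n, n * t₀ = t₀ * n ∧ n * a * n⁻¹ = w := by
      rintro w (rfl | rfl)
      · exact ⟨m₀, hm₀, e1⟩
      · refine ⟨x * m₀, mul_comm' hxt hm₀, ?_⟩
        rw [← hvx, ← e1]; group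
    obtain ⟨w, hw, hwv, hb | hb⟩ := key m hm hme
    · rcases hwv with rfl | rfl
      · exact Or.inl hb
      · exact Or.inr hb
    · exfalso
      -- `w s = w' t₀`
      have : ∃ w', (w' = v ∨ w' = v * a) ∧ w * s = w' * t₀ := by
        rcases h with rfl | rfl
        · exact ⟨w, hwv, rfl⟩
        · refine ⟨w * a, ?_, ?_⟩
          · rcases hwv with rfl | rfl
            · exact Or.inr rfl
            · left; rw [mul_assoc, H.aa, mul_one]
          · calc w * s = w * (a * a) * s := by rw [H.aa]; group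
              _ = w * a * (a * s) := by group
      obtain ⟨w', hw', e⟩ := this
      obtain ⟨n, hn, hnw⟩ := cv w' hw'
      apply H.bt h hn m
      rw [hb, e, hnw]
  · right
    refine ⟨v, hv, ⟨m₀, hm₀, e1⟩, fun m hm => ?_⟩
    by_cases hme : m * a * m⁻¹ = a
    · exact Or.inl hme
    right
    have cv : ∀ w, (w = v ∨ w = v * a) → ∃ n : G, n * a * n⁻¹ = w * s := by
      rintro w (rfl | rfl)
      · exact ⟨m₀, e1⟩
      · refine ⟨x * m₀, ?_⟩
        rw [← H.x_vs hv, ← e1]; group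
    obtain ⟨w, hw, hwv, hb | hb⟩ := key m hm hme
    · exfalso
      have : ∃ w', (w' = v ∨ w' = v * a) ∧ w * t₀ = w' * s := by
        rcases h with rfl | rfl
        · exact ⟨w, hwv, rfl⟩
        · refine ⟨w * a, ?_, by group⟩
          rcases hwv with rfl | rfl
          · exact Or.inr rfl
          · left; rw [mul_assoc, H.aa, mul_one]
      obtain ⟨w', hw', e⟩ := this
      obtain ⟨n, hnw⟩ := cv w' hw'
      apply H.bt h hm n
      rw [hb, e, hnw]
    · rcases hwv with rfl | rfl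
      · exact Or.inl hb
      · exact Or.inr hb

/-- the size of `a^{C(s)}` -/
theorem tri_card [Finite G] : ∃ B : Finset G, B.card ≤ 3 ∧ ∀ m, m * s = s * m → m * a * m⁻¹ ∈ B := by
  classical
  rcases H.tri (t₀ := s) (Or.inl rfl) with h | ⟨v, -, -, h⟩ | ⟨v, -, -, h⟩
  · exact ⟨{a}, by simp, fun m hm => by rw [h m hm]; simp⟩
  · refine ⟨{a, v, v * a}, Finset.card_le_three, fun m hm => ?_⟩
    rcases h m hm with h1 | h1 | h1 <;> rw [h1] <;> simp
  · refine ⟨{a, v * s, v * a * s}, Finset.card_le_three, fun m hm => ?_⟩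
    rcases h m hm with h1 | h1 | h1 <;> rw [h1] <;> simp

/-- **(7)** -/
theorem seven [Finite G] {g : G} (hK : g * a * g⁻¹ ∈ centralizer (L : Set G))
    (hc : g * a * g⁻¹ * a = a * (g * a * g⁻¹)) :
    g ∈ normalizer (L : Set G) ∨ ∀ l ∈ L, g * l * g⁻¹ ∈ centralizer (L : Set G) := by
  have h1 : ∀ l ∈ L, g⁻¹ * l * (g⁻¹)⁻¹ * a = a * (g⁻¹ * l * (g⁻¹)⁻¹) := by
    intro l hl
    rw [inv_inv]
    exact comm_cj_iff.mp (comm_of_mem hl hK)
  have h1' : ∀ l ∈ L, g⁻¹ * l * g ∈ normalizer (L : Set G) := by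
    intro l hl
    have := H.CaN _ (h1 l hl)
    rwa [inv_inv] at this
  by_cases hnc : ∀ l ∈ L, g⁻¹ * l * (g⁻¹)⁻¹ ∈ centralizer (L : Set G)
  · right
    intro l hl
    rw [mem_centralizer_iff]
    intro l' hl'
    have h2 := comm_of_mem hl (hnc l' hl')
    rw [inv_inv] at h2
    exact comm_cj_iff.mpr h2.symm
  · have hw : g⁻¹ * a * g ∈ centralizer (L : Set G) := by
      apply y4 H.simp H.nab hnc (fun l hl => H.CaN _ (h1 l hl)) (H.perf g⁻¹ h1)
      · apply H.CaN
        exact comm_cj_iff.mp hc.symm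
      · have : (g⁻¹)⁻¹ * (g⁻¹ * a * g) * g⁻¹ = a := by group
        rw [this]
        exact H.aK
    have h2 : ∀ l ∈ L, g * l * g⁻¹ ∈ normalizer (L : Set G) := by
      intro l hl
      apply H.CaN
      have h3 := comm_of_mem hl hw
      exact (comm_cj_iff.mpr h3.symm).symm
    by_cases hg : g ∈ normalizer (L : Set G)
    · exact Or.inl hg
    · right
      intro l' hl'
      rw [mem_centralizer_iff]
      intro l hl
      have h5 : (g⁻¹ * l * g) * l' * (g⁻¹ * l * g)⁻¹ * l'⁻¹ ∈ L :=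
        mul_mem (L_conj (h1' l hl) hl') (inv_mem hl')
      have h6 : g * ((g⁻¹ * l * g) * l' * (g⁻¹ * l * g)⁻¹ * l'⁻¹) * g⁻¹ ∈ L := by
        have h7 : g * ((g⁻¹ * l * g) * l' * (g⁻¹ * l * g)⁻¹ * l'⁻¹) * g⁻¹ =
            l * ((g * l' * g⁻¹) * l⁻¹ * (g * l' * g⁻¹)⁻¹) := by group
        rw [h7]
        exact mul_mem hl (L_conj (h2 l' hl') (inv_mem hl))
      have h8 := y2 H.simp hg h2 h5 h6
      have h9 : (g⁻¹ * l * g) * l' * (g⁻¹ * l * g)⁻¹ = l' := mul_inv_eq_one.mp h8
      calc l * (g * l' * g⁻¹) = g * ((g⁻¹ * l * g) * l' * (g⁻¹ * l * g)⁻¹) * g⁻¹ * l := by group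
        _ = g * l' * g⁻¹ * l := by rw [h9]

/-- **(11)** conjugates of `L` in `N(L)` centralize `a` -/
theorem eleven [Finite G] {g : G} (hg : ∀ l ∈ L, g * l * g⁻¹ ∈ normalizer (L : Set G)) {l : G}
    (hl : l ∈ L) : g * l * g⁻¹ * a = a * (g * l * g⁻¹) := by
  classical
  obtain ⟨B, hB, hBm⟩ := H.tri_card
  have hsub : ∀ n ∈ normalizer (L : Set G), n * a * n⁻¹ ∈ B := by
    intro n hn
    obtain ⟨l, hl, h1⟩ := H.invL (n * s * n⁻¹) (L_conj hn H.sL) (cj_sq H.ss) (cj_ne H.s1)
    have h2 : l * n * s = s * (l * n) := by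
      have e : l * n * s * (l * n)⁻¹ = l * (n * s * n⁻¹) * l⁻¹ := by group
      exact comm_of_cj_eq (e.trans h1)
    have h3 := hBm _ h2
    have h4 : l * n * a * (l * n)⁻¹ = n * a * n⁻¹ := by
      have h5 : l * (n * a * n⁻¹) = n * a * n⁻¹ * l := comm_of_mem hl (K_conj hn H.aK)
      calc l * n * a * (l * n)⁻¹ = l * (n * a * n⁻¹) * l⁻¹ := by group
        _ = n * a * n⁻¹ := by rw [h5]; group
    rwa [h4] at h3
  let A : Finset G := B.filter (fun b => ∃ n ∈ normalizer (L : Set G), b = n * a * n⁻¹)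
  have hA : A.card ≤ 3 := (Finset.card_filter_le _ _).trans hB
  refine centr H.simp H.big A hA (fun l hl b hb => ?_) hl (b := a) ?_
  · obtain ⟨-, n, hn, rfl⟩ := Finset.mem_filter.mp hb
    have h1 : g * l * g⁻¹ * (n * a * n⁻¹) * (g * l * g⁻¹)⁻¹ =
        (g * l * g⁻¹ * n) * a * (g * l * g⁻¹ * n)⁻¹ := by group
    rw [h1]
    exact Finset.mem_filter.mpr ⟨hsub _ (mul_mem (hg l hl) hn), _, mul_mem (hg l hl) hn, rfl⟩
  · exact Finset.mem_filter.mpr ⟨by simpa using hsub 1 (one_mem _), 1, one_mem _, by group⟩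

/-- **(12)** `C(as) ≤ C(a)` -/
theorem twelve [Finite G] {m : G} (hm : m * (a * s) = a * s * m) : m * a = a * m := by
  classical
  have hT : T0 a s (a * s) := Or.inr rfl
  rcases H.tri hT with h | ⟨v, hv, ⟨m₀, hm₀, e⟩, -⟩ | ⟨v, hv, ⟨m₀, hm₀, e⟩, hall⟩
  · exact comm_of_cj_eq (h m hm)
  · -- `{a, v, va}`: impossible
    exfalso
    have h1 : m₀ * s * m₀⁻¹ = v * a * s := by
      have h2 : s = a * (a * s) := by rw [← mul_assoc, H.aa, one_mul]
      have h3 : m₀ * (a * s) * m₀⁻¹ = a * s := cj_eq_of_comm hm₀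
      calc m₀ * s * m₀⁻¹ = m₀ * (a * (a * s)) * m₀⁻¹ := by rw [← h2]
        _ = v * (a * s) := by rw [cj_mul, e, h3]
        _ = v * a * s := by group
    rcases H.seven (g := m₀) (by rw [e]; exact hv.mK) (by rw [e]; exact hv.ca) with h2 | h2
    · have h3 := L_conj h2 H.sL
      rw [h1] at h3
      have h4 : v * a = 1 := H.disj ((L.mul_mem_cancel_right H.sL).mp h3) (mul_mem hv.mK H.aK)
      exact H.v1 (H.isV_mul hv) h4
    · have h3 := h2 s H.sL
      rw [h1] at h3
      exact H.sK (((centralizer (L : Set G)).mul_mem_cancel_left (mul_mem hv.mK H.aK)).mp h3)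
  · exfalso
    -- `g = x m₀`, `s^g = v`
    have h0 : m₀ * s * m₀⁻¹ = v * a := by
      have h2 : s = a * (a * s) := by rw [← mul_assoc, H.aa, one_mul]
      have h3 : m₀ * (a * s) * m₀⁻¹ = a * s := cj_eq_of_comm hm₀
      calc m₀ * s * m₀⁻¹ = m₀ * (a * (a * s)) * m₀⁻¹ := by rw [← h2]
        _ = v * s * (a * s) := by rw [cj_mul, e, h3]
        _ = v * (s * a) * s := by group
        _ = v * a * (s * s) := by rw [H.sa]; group
        _ = v * a := by rw [H.ss, mul_one]
    obtain ⟨g, hgd⟩ : ∃ g, g = x * m₀ := ⟨_, rfl⟩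
    have hgs : g * s * g⁻¹ = v := by
      calc g * s * g⁻¹ = x * (m₀ * s * m₀⁻¹) * x⁻¹ := by rw [hgd]; group
        _ = v * a * a := by rw [h0, cj_mul, hv.cx, cj_eq_of_comm H.xa]
        _ = v := by rw [mul_assoc, H.aa, mul_one]
    -- `C_K(a)` normalizes `{v, va}`
    have hnorm : ∀ k ∈ centralizer (L : Set G), k * a = a * k →
        k * v * k⁻¹ = v ∨ k * v * k⁻¹ = v * a := by
      intro k hk hka
      have hks : k * s = s * k := (comm_of_mem H.sL hk).symm
      have h1 := hall (k * m₀) (mul_comm' (comm_mul hka hks) hm₀)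
      have h2 : k * m₀ * a * (k * m₀)⁻¹ = k * v * k⁻¹ * s := by
        calc k * m₀ * a * (k * m₀)⁻¹ = k * (v * s) * k⁻¹ := by rw [← e]; group
          _ = k * v * k⁻¹ * s := by rw [cj_mul, cj_eq_of_comm hks]
      rw [h2] at h1
      rcases h1 with h1 | h1 | h1
      · exfalso
        apply H.sK
        have h3 : s = (k * v * k⁻¹)⁻¹ * a := by rw [← h1]; group
        rw [h3]
        exact mul_mem (inv_mem (mul_mem (mul_mem hk hv.mK) (inv_mem hk))) H.aK
      · exact Or.inl (mul_right_cancel h1)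
      · exact Or.inr (mul_right_cancel h1)
    -- `L` centralizes `c = g m a (g m)⁻¹`, `m ∈ C(s)`
    obtain ⟨B, hB, hBm⟩ := H.tri_card
    have hLc : ∀ m, m * s = s * m → g * m * a * (g * m)⁻¹ ∈ centralizer (L : Set G) := by
      intro m hm
      let A : Finset G := B.image (fun b => g * b * g⁻¹)
      let A' : Finset G := A.filter (fun c => ∃ m, m * s = s * m ∧ c = g * m * a * (g * m)⁻¹)
      have hA' : A'.card ≤ 3 := ((Finset.card_filter_le _ _).trans Finset.card_image_le).trans hB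
      have hmemA : ∀ m, m * s = s * m → g * m * a * (g * m)⁻¹ ∈ A' := by
        intro m hm
        refine Finset.mem_filter.mpr ⟨Finset.mem_image.mpr ⟨m * a * m⁻¹, hBm m hm, by group⟩,
          m, hm, rfl⟩
      rw [mem_centralizer_iff]
      intro l hl
      have h1 := centr H.simp H.big A' hA' (g := 1) (fun l hl c hc => ?_) hl (hmemA m hm)
      · simpa using h1
      · obtain ⟨-, n, hn, rfl⟩ := Finset.mem_filter.mp hc
        have hlv : l * (g * s * g⁻¹) = g * s * g⁻¹ * l := by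
          rw [hgs]; exact comm_of_mem hl hv.mK
        have h2 := hmemA ((g⁻¹ * l * g) * n) (mul_comm' (comm_cj_iff.mp hlv) hn)
        have h3 : 1 * l * 1⁻¹ * (g * n * a * (g * n)⁻¹) * (1 * l * 1⁻¹)⁻¹ =
            g * (g⁻¹ * l * g * n) * a * (g * (g⁻¹ * l * g * n))⁻¹ := by group
        rw [h3]
        exact h2
    -- choose `m₂ ∈ C(s)` with `c` commuting with `a`
    have hch : ∃ m₂, m₂ * s = s * m₂ ∧
        g * m₂ * a * (g * m₂)⁻¹ * a = a * (g * m₂ * a * (g * m₂)⁻¹) := by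
      by_cases h1 : g * a * g⁻¹ * a = a * (g * a * g⁻¹)
      · exact ⟨1, by group, by simpa using h1⟩
      · obtain ⟨m₁, hm₁d⟩ : ∃ m₁, m₁ = g⁻¹ * a * g := ⟨_, rfl⟩
        have hm₁ : m₁ * s = s * m₁ := by
          rw [hm₁d]
          apply comm_cj_iff.mp
          rw [hgs]; exact hv.ca.symm
        have hne : m₁ * a * m₁⁻¹ ≠ a := by
          intro h2
          apply h1
          have h3 := comm_of_cj_eq h2
          rw [hm₁d] at h3
          exact (comm_cj_iff.mpr h3).symm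
        obtain ⟨w, hwK, hwa, hww, hwx, hb⟩ := (H.ten (Or.inl rfl) hm₁).resolve_left hne
        have hw : IsV L x a w := ⟨hwK, hwa, hww, hwx⟩
        have hxb : x * (m₁ * a * m₁⁻¹) * x⁻¹ = (m₁ * a * m₁⁻¹) * a := by
          rcases hb with hb | hb
          · rw [hb, hwx]
          · rw [hb, H.x_vs hw, mul_assoc, mul_assoc, H.sa]
        refine ⟨x * m₁, mul_comm' H.sx.symm hm₁, ?_⟩
        have e1 : g * (x * m₁) * a * (g * (x * m₁))⁻¹ = (g * (m₁ * a * m₁⁻¹) * g⁻¹) * (g * a * g⁻¹) := by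
          rw [← cj_mul, ← hxb]; group
        have e2 : g * (m₁ * a * m₁⁻¹) * g⁻¹ = a * (g * a * g⁻¹) * a⁻¹ := by rw [hm₁d]; group
        have e3 : (g * (m₁ * a * m₁⁻¹) * g⁻¹) * (g * a * g⁻¹) =
            (g * a * g⁻¹) * (g * (m₁ * a * m₁⁻¹) * g⁻¹) := cj_comm (H.nine (Or.inl rfl) hm₁)
        rw [e1]
        obtain ⟨c, hc⟩ : ∃ c, c = g * a * g⁻¹ := ⟨_, rfl⟩
        rw [e2, ← hc, H.ai] at e3
        rw [e2, ← hc, H.ai]
        calc a * c * a * c * a = (a * c * a * c) * a := by group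
          _ = (c * (a * c * a)) * a := by rw [e3]
          _ = c * a * c * (a * a) := by group
          _ = (a * a) * (c * a * c) := by rw [H.aa]; group
          _ = a * (a * c * a * c) := by group
    obtain ⟨m₂, hm₂, hca⟩ := hch
    obtain ⟨g₁, hg₁⟩ : ∃ g₁, g₁ = g * m₂ := ⟨_, rfl⟩
    have hcK := hLc m₂ hm₂
    rw [← hg₁] at hca hcK
    have hg₁s : g₁ * s * g₁⁻¹ = v := by
      rw [hg₁, ← hgs]
      calc g * m₂ * s * (g * m₂)⁻¹ = g * (m₂ * s * m₂⁻¹) * g⁻¹ := by group
        _ = g * s * g⁻¹ := by rw [cj_eq_of_comm hm₂]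
    rcases H.seven hcK hca with h2 | h2
    · exact H.v1 hv (H.disj (hg₁s ▸ L_conj h2 H.sL) hv.mK)
    · have h3 : ∀ l ∈ L, g₁ * l * g₁⁻¹ * a = a * (g₁ * l * g₁⁻¹) := fun l hl =>
        H.eleven (fun l hl => K_le_M (h2 l hl)) hl
      have h4 : ∀ l ∈ L, (g₁ * l * g₁⁻¹) * v = v * (g₁ * l * g₁⁻¹) := by
        intro l hl
        refine centr H.simp H.big {v, v * a} (Finset.card_le_two.trans (by norm_num))
          (fun l hl b hb => ?_) hl (by simp)
        have h5 := hnorm _ (h2 l hl) (h3 l hl)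
        simp only [Finset.mem_insert, Finset.mem_singleton] at hb ⊢
        rcases hb with rfl | rfl
        · exact h5
        · rw [cj_mul, cj_eq_of_comm (h3 l hl)]
          rcases h5 with h5 | h5
          · right; rw [h5]
          · left; rw [h5, mul_assoc, H.aa, mul_one]
      apply H.sK
      rw [mem_centralizer_iff]
      intro l hl
      have h5 := h4 l hl
      rw [← hg₁s] at h5
      have h6 := cj_comm (g := g₁⁻¹) h5
      rw [inv_inv] at h6
      have e1 : g₁⁻¹ * (g₁ * l * g₁⁻¹) * g₁ = l := by group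
      have e2 : g₁⁻¹ * (g₁ * s * g₁⁻¹) * g₁ = s := by group
      rwa [e1, e2] at h6

/-- **(13)** `C(s) ≤ N(L)` -/
theorem thirteen [Finite G] {m : G} (hm : m * s = s * m) : m ∈ normalizer (L : Set G) := by
  have hmN : m * a * m⁻¹ ∈ centralizer (L : Set G) → m * a * m⁻¹ * a = a * (m * a * m⁻¹) →
      m ∈ normalizer (L : Set G) := by
    intro h1 h2
    rcases H.seven h1 h2 with h3 | h3
    · exact h3
    · exfalso
      have h4 := h3 s H.sL
      rw [cj_eq_of_comm hm] at h4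
      exact H.sK h4
  rcases H.tri (t₀ := s) (Or.inl rfl) with h | ⟨v, hv, -, hall⟩ | ⟨v, hv, ⟨m₀, hm₀, e⟩, hall⟩
  · exact H.CaN m (comm_of_cj_eq (h m hm))
  · rcases hall m hm with h1 | h1 | h1
    · exact H.CaN m (comm_of_cj_eq h1)
    · exact hmN (by rw [h1]; exact hv.mK) (by rw [h1]; exact hv.ca)
    · exact hmN (by rw [h1]; exact mul_mem hv.mK H.aK) (by rw [h1]; exact mul_comm' hv.ca rfl)
  · exfalso
    -- `C(v) ≤ C(vs)`
    have h1 : m₀ * (a * s) * m₀⁻¹ = v := by
      rw [cj_mul, e, cj_eq_of_comm hm₀, mul_assoc, H.ss, mul_one]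
    apply H.sK
    rw [mem_centralizer_iff]
    intro l hl
    have h2 : l * v = v * l := comm_of_mem hl hv.mK
    rw [← h1] at h2
    have h3 := H.twelve (comm_cj_iff.mp h2)
    have h4 := comm_cj_iff.mpr h3
    rw [e] at h4
    have h5 : l * v = v * l := comm_of_mem hl hv.mK
    apply mul_left_cancel (a := v)
    calc v * (l * s) = (l * v) * s := by rw [h5]; group
      _ = l * (v * s) := by group
      _ = v * s * l := h4
      _ = v * (s * l) := by group

/-- **(14)** every conjugate of `a` normalizes `L` -/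
theorem fourteen [Finite G] (g : G) : g * a * g⁻¹ ∈ normalizer (L : Set G) := by
  rcases H.linka g with h | ⟨u, huX, huu, hu1, hux, hub, -, -⟩
  · rw [h]; exact K_le_M H.aK
  · obtain ⟨d, hd, hdx, h⟩ := H.cls u huX hux huu hu1
    obtain ⟨b, hb⟩ : ∃ b, b = g * a * g⁻¹ := ⟨_, rfl⟩
    rw [← hb] at hub ⊢
    have h1 := cj_comm (g := d) hub
    have h2 : d * b * d⁻¹ ∈ normalizer (L : Set G) := by
      rcases h with h | h | h
      · rw [h] at h1
        exact H.CaN _ h1.symm
      · rw [h] at h1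
        exact H.thirteen h1.symm
      · rw [h] at h1
        exact H.CaN _ (H.twelve h1.symm)
    have h3 : b = d⁻¹ * (d * b * d⁻¹) * d := by group
    rw [h3]
    exact mul_mem (mul_mem (inv_mem (L_le_M hd)) h2) (L_le_M hd)

/-- **Theorem 4A**, abstract form. -/
theorem false_of [Finite G] (hmin : ∀ N : Subgroup G, N.Normal → N ≤ X → N ≠ ⊥ → X ≤ N)
    (hcov : ∀ g, g ∈ X ∨ g * x ∈ X) : False := by
  have hXM : X ≤ normalizer (L : Set G) := by
    refine (hmin (normalClosure {a}) inferInstance ?_ ?_).trans ?_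
    · have := H.XN
      exact normalClosure_le_normal (Set.singleton_subset_iff.mpr H.aX)
    · intro h
      have h1 : a ∈ normalClosure {a} := subset_normalClosure (Set.mem_singleton a)
      rw [h, mem_bot] at h1
      exact H.a1 h1
    · rw [normalClosure, closure_le]
      intro y hy
      obtain ⟨b, hb, hby⟩ := Group.mem_conjugatesOfSet_iff.mp hy
      rw [Set.mem_singleton_iff] at hb
      rw [hb] at hby
      obtain ⟨c, hc⟩ := isConj_iff.mp hby
      rw [← hc]
      exact H.fourteen c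
  have hLn : L.Normal := ⟨fun l hl g => by
    rcases hcov g with h | h
    · exact L_conj (hXM h) hl
    · have h1 : g = g * x * x⁻¹ := by group
      exact L_conj (h1 ▸ mul_mem (hXM h) (inv_mem H.xM)) hl⟩
  have hL : L ≠ ⊥ := by
    intro h
    have := H.sL
    rw [h, mem_bot] at this
    exact H.s1 this
  have h1 := hmin L hLn H.LX hL H.aX
  exact H.a1 (H.disj h1 H.aK)

end Hyp

end Cfsg.Agent.UGT.FourA.Basic
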