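import Cfsg.Agent.UGT.FourA.Delta
import Cfsg.Agent.UGT.FourA.Facts
import Cfsg.Agent.UGT.FourA.Top

/-!
# The structure `Hyp0` of an honest component of type `PSL(2,F)`
-/

set_option autoImplicit false

open Cfsg Subgroup
open Cfsg.Agent.SignalizersComponents Cfsg.Agent.Lib
open Cfsg.Agent.SignalizersComponents.IntrinsicBasic
open Cfsg.Agent.Intrinsic.Basic Cfsg.Agent.Intrinsic.Cen
open Cfsg.Agent.UGT.Triple Cfsg.Agent.UGT.Iface Cfsg.Agent.UGT.Res.KFacts
open Cfsg.Agent.UGT.Res.EFacts Cfsg.Agent.UGT.FourA.Top
open Cfsg.Agent.GH.L2Aut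

namespace Cfsg.Agent.UGT.FourA.Zero

universe u

variable {G : Type u} [Group G] [Finite G]

/-- everything but `out` -/
theorem hyp0_of {X : Subgroup G} {x a s : G} {L : Subgroup G} {F : Type*} [Field F] [Finite F]
    {R : GH.L2Aut.Rep F ↥L} (I : Idx X x) (hF : 5 ≤ Nat.card F) (cf : Cf R x)
    (haX : a ∈ X) (haa : a * a = 1) (ha1 : a ≠ 1) (hxa' : x * a = a * x)
    (hLX : L ≤ X) (hLa : ∀ l ∈ L, l * a = a * l) (hS : ThE.Base.IsS L x s)
    (hCx : ∀ c, c * x = x * c → c * a = a * c)
    (hCaN : ∀ c, c * a = a * c → c ∈ normalizer (L : Set G))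
    (star : ∀ k ∈ centralizer (L : Set G), k * a = a * k → k * x = x * k → k * k = 1 → k = 1 ∨ k = a)
    (hxa : ∃ g : G, g * x * g⁻¹ = x * a) (nas : ∀ g : G, g * a * g⁻¹ ≠ s)
    (naas : ∀ g : G, g * a * g⁻¹ ≠ a * s) : FourA.Basic.Hyp0 X L x a s := by
  refine
    { XN := I.XN
      xX := I.xX
      xx := I.xx
      aX := haX
      aa := haa
      a1 := ha1
      LX := hLX
      La := hLa
      simp := fun N hN hn => Cfsg.Agent.UGT.Res.EFacts.simp R (by omega) N hN hn
      nab := Facts.nab R
      big := Facts.big R hF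
      xLK := cf.xLK
      Cx := hCx
      CaN := hCaN
      perf := fun g hg => Cfsg.Agent.UGT.Res.EFacts.perf R (by omega) g fun l hl => hCaN _ (hg l hl)
      star := star
      hxa := hxa
      sL := hS.mem
      ss := hS.sq
      s1 := hS.ne
      sx := hS.comm
      invL := fun i hi hii hi1 => Facts.invL R hS.mem hS.sq hS.ne hi hii hi1
      cls := ?_
      commS := ?_
      nas := nas
      naas := naas
      xs := Facts.xs cf hS }
  · intro u hu hux huu hu1
    have hua := hCx u hux
    have huN := hCaN u hua
    have hc1 : u * x * u⁻¹ * x⁻¹ ∈ centralizer (L : Set G) := by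
      have : u * x * u⁻¹ * x⁻¹ = 1 := by rw [hux]; group
      rw [this]
      exact one_mem _
    have hda : ∀ d ∈ L, d * a * d⁻¹ = a := fun d hd => by rw [hLa d hd]; group
    rcases cf.cenx u huN huu hc1 with h3 | h3 | ⟨s', hs', h3 | h3⟩
    · refine ⟨1, one_mem _, by rw [one_mul, mul_one], Or.inl ?_⟩
      rw [(star u h3 hua hux huu).resolve_left hu1]
      group
    · exfalso
      have e1 : u * x * x = x * (u * x) := by rw [← mul_assoc, ← hux]
      have e2 : u * x * (u * x) = 1 := by
        calc u * x * (u * x) = u * (x * u) * x := by group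
          _ = (u * u) * (x * x) := by rw [← hux]; group
          _ = 1 := by rw [huu, I.xx, one_mul]
      have e3 : u * x * a = a * (u * x) := by
        rw [mul_assoc, hxa', ← mul_assoc, hua, mul_assoc]
      rcases star _ h3 e3 e1 e2 with h4 | h4
      · apply I.xX
        rw [eq_inv_of_mul_eq_one_right h4]
        exact X.inv_mem hu
      · apply I.xX
        have h5 : x = u⁻¹ * a := by rw [← h4]; group
        rw [h5]
        exact X.mul_mem (X.inv_mem hu) haX
    · -- `u s' ∈ C(L)`
      have e0 : s' * (u * s') = u * s' * s' := mem_centralizer_iff.mp h3 s' hs'.mem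
      have e1 : s' * u = u * s' := by
        have : s' * u * s' = u * s' * s' := by rw [mul_assoc]; exact e0
        exact mul_right_cancel this
      have e2 : u * s' * (u * s') = 1 := by
        calc u * s' * (u * s') = u * (s' * u) * s' := by group
          _ = (u * u) * (s' * s') := by rw [e1]; group
          _ = 1 := by rw [huu, hs'.sq, one_mul]
      have e3 : u * s' * a = a * (u * s') := by
        rw [mul_assoc, hLa s' hs'.mem, ← mul_assoc, hua, mul_assoc]
      have e4 : u * s' * x = x * (u * s') := by
        rw [mul_assoc, hs'.comm, ← mul_assoc, hux, mul_assoc]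
      obtain ⟨d, hd, hdx, hds⟩ := Facts.cls_s cf hS hs'
      refine ⟨d, hd, hdx, ?_⟩
      have hs'i : s'⁻¹ = s' := inv_eq_of_mul_eq_one_left hs'.sq
      rcases star _ h3 e3 e4 e2 with h4 | h4
      · right; left
        have h5 : u = s' := by rw [mul_eq_one_iff_eq_inv.mp h4, hs'i]
        rw [h5, hds]
      · right; right
        have h5 : u = a * s' := by
          calc u = u * s' * s'⁻¹ := by group
            _ = a * s' := by rw [h4, hs'i]
        rw [h5]
        calc d * (a * s') * d⁻¹ = (d * a * d⁻¹) * (d * s' * d⁻¹) := by group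
          _ = a * s := by rw [hda d hd, hds]
    · exfalso
      have hs'X : s' ∈ X := hLX hs'.mem
      obtain ⟨y, hy⟩ : ∃ y, y = u * x := ⟨_, rfl⟩
      rw [← hy] at h3
      have e0 : s' * (y * s') = y * s' * s' := mem_centralizer_iff.mp h3 s' hs'.mem
      have e1 : s' * y = y * s' := by
        have : s' * y * s' = y * s' * s' := by rw [mul_assoc]; exact e0
        exact mul_right_cancel this
      have hyy : y * y = 1 := by
        rw [hy]
        calc u * x * (u * x) = u * (x * u) * x := by group
          _ = (u * u) * (x * x) := by rw [← hux]; group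
          _ = 1 := by rw [huu, I.xx, one_mul]
      have hyx : y * x = x * y := by rw [hy, ← mul_assoc, ← hux]
      have hya : y * a = a * y := by
        rw [hy, mul_assoc, hxa', ← mul_assoc, hua, mul_assoc]
      have e2 : y * s' * (y * s') = 1 := by
        calc y * s' * (y * s') = y * (s' * y) * s' := by group
          _ = (y * y) * (s' * s') := by rw [e1]; group
          _ = 1 := by rw [hyy, hs'.sq, one_mul]
      have e3 : y * s' * a = a * (y * s') := by
        rw [mul_assoc, hLa s' hs'.mem, ← mul_assoc, hya, mul_assoc]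
      have e4 : y * s' * x = x * (y * s') := by
        rw [mul_assoc, hs'.comm, ← mul_assoc, hyx, mul_assoc]
      have hyX : y ∈ X := by
        rcases star _ h3 e3 e4 e2 with h4 | h4
        · rw [mul_eq_one_iff_eq_inv.mp h4]
          exact X.inv_mem hs'X
        · have h5 : y = a * s'⁻¹ := by rw [← h4]; group
          rw [h5]
          exact X.mul_mem haX (X.inv_mem hs'X)
      apply I.xX
      have h5 : x = u⁻¹ * y := by rw [hy]; group
      rw [h5]
      exact X.mul_mem (X.inv_mem hu) hyX
  · intro s' hs' hs'x hs's' hs's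
    by_cases h3 : s' = 1
    · exact Or.inl h3
    · exact Or.inr (cf.comm s' s ⟨hs', hs'x, hs's', h3⟩ hS hs's)

end Cfsg.Agent.UGT.FourA.Zero
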