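import Cfsg.Agent.UGT.FourA.Zst
import Cfsg.Agent.UGT.FourA.End
import Cfsg.Agent.UGT.FourA.Zero
import Cfsg.Agent.UGT.RankOneRep
import Cfsg.Agent.UGT.Res.Hon
import Cfsg.Agent.SignalizersComponents.StandardTools

/-!
# Theorem 4A

`G = X⟨x⟩`, `|G : X| = 2`, `X` core-free, all triples of type `PSL(2,q)`, `x` of PGL type, no field type 2-elements,
`m(C_{F(a)}(x)) = 1` for all triples: then `G` has sectional 2-rank at most 4.
-/

set_option autoImplicit false

open Cfsg Subgroup
open Cfsg.Agent.SignalizersComponents Cfsg.Agent.Lib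
open Cfsg.Agent.SignalizersComponents.IntrinsicBasic
open Cfsg.Agent.Intrinsic.Basic Cfsg.Agent.Intrinsic.Cen Cfsg.Agent.Intrinsic.Diag
open Cfsg.Agent.UGT.Triple Cfsg.Agent.UGT.Iface Cfsg.Agent.UGT.Res.KFacts Cfsg.Agent.UGT.Res.Base
open Cfsg.Agent.UGT.Res.EFacts Cfsg.Agent.UGT.FourA.Hon Cfsg.Agent.UGT.FourA.Top
open Cfsg.Agent.UGT.FourA.Core Cfsg.Agent.UGT.FourA.Zst
open Cfsg.Agent.GH.L2Aut Cfsg.Agent.UGT.RankOneR
open scoped commutatorElement

namespace Cfsg.Agent.UGT.FourA.Supply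

universe u

variable {G : Type u} [Group G] [Finite G]

/-- `O(C(x)) ≤ C(a)` and `a` isolated in `C(x)`: `C(x) ≤ C(a)` -/
theorem cx_le {x a : G} {S : Subgroup G} (hS : IsPGroup 2 S) (hSH : S ≤ centralizer ({x} : Set G))
    (hmax : ∀ U : Subgroup G, IsPGroup 2 U → S ≤ U → U ≤ centralizer ({x} : Set G) → U ≤ S)
    (haa : a * a = 1) (ha1 : a ≠ 1) (haS : a ∈ S)
    (hiso : ∀ g : G, g * x = x * g → g * a * g⁻¹ ∈ S → g * a * g⁻¹ = a)
    (hO : ∀ e ∈ core (centralizer ({x} : Set G)), e * a = a * e) :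
    ∀ c : G, c * x = x * c → c * a = a * c := by
  intro c hc
  have hai : a⁻¹ = a := inv_eq_of_mul_eq_one_left haa
  have h1 := zstar_sub hS hSH hmax (orderOf_eq_prime (by rw [pow_two]; exact haa) ha1) haS
    (fun g hg => hiso g (comm_c hg)) c (mem_c hc)
  have h2 := hO _ h1
  obtain ⟨b, hb⟩ : ∃ b, b = c * a * c⁻¹ := ⟨_, rfl⟩
  have hbb : b * b = 1 := by
    rw [hb]
    calc c * a * c⁻¹ * (c * a * c⁻¹) = c * (a * a) * c⁻¹ := by group
      _ = 1 := by rw [haa]; group
  have h3 : a * c * a⁻¹ * c⁻¹ = a * b := by rw [hb, hai]; group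
  rw [h3] at h1 h2
  have h4 : b * a = a * b := by
    have : a * (b * a) = a * (a * b) := by
      calc a * (b * a) = a * b * a := by group
        _ = a * (a * b) := h2
    exact mul_left_cancel this
  have h5 : a * b * (a * b) = 1 := by
    calc a * b * (a * b) = a * (b * a) * b := by group
      _ = a * (a * b) * b := by rw [h4]
      _ = (a * a) * (b * b) := by group
      _ = 1 := by rw [haa, hbb, one_mul]
  have h6 := eq_one_of_mem_core_sq h1 h5
  have h7 : b = a := by
    rw [mul_eq_one_iff_eq_inv.mp h6] at haa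
    have := mul_eq_one_iff_eq_inv.mp h6
    rw [this, inv_eq_of_mul_eq_one_left hbb]
  calc c * a = c * a * c⁻¹ * c := by group
    _ = a * c := by rw [← hb, h7]

/-- **(6)** `L` is normal in `C(a)` -/
theorem norm_ca {x a : G} {L : Subgroup G} {F : Type*} [Field F] [Finite F]
    (R : GH.L2Aut.Rep F ↥L) (Tr : IsTriple x a L)
    (hc : core (centralizer ({a} : Set G)) = ⊥) {s : G} (hs : ThE.Base.IsS L x s)
    (star : ∀ k ∈ centralizer (L : Set G), k * a = a * k → k * x = x * k → k * k = 1 → k = 1 ∨ k = a) :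
    ∀ c : G, c * a = a * c → c ∈ normalizer (L : Set G) := by
  intro c hca
  by_contra hcN
  have hLa : ∀ l ∈ L, l * a = a * l := fun l hl => comm_c (Tr.comp.le hl)
  have haL : a ∈ centralizer (L : Set G) := mem_centralizer_iff.mpr hLa
  have hcore : ∀ {M : Subgroup G}, IsComp (centralizer ({a} : Set G)) M → core M = ⊥ := fun hM => by
    rw [eq_bot_iff, ← hc]
    exact hM.core_le_core
  have hcen : ∀ {M N : Subgroup G}, IsComp (centralizer ({a} : Set G)) M →
      IsComp (centralizer ({a} : Set G)) N → M ≠ N → ∀ y ∈ N, y ∈ centralizer (M : Set G) :=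
    fun hM hN hne y hy => (fixes_iff (hcore hM)).mp (hM.fixes_of_mem hN hne hy)
  have hcc : c ∈ centralizer ({a} : Set G) := mem_c hca
  have hxc : x ∈ centralizer ({a} : Set G) := mem_c Tr.comm.symm
  obtain ⟨M, hMdef⟩ : ∃ M, M = IntrinsicBasic.cj c L := ⟨_, rfl⟩
  have hM : IsComp (centralizer ({a} : Set G)) M := hMdef ▸ isComp_cj_of_mem Tr.comp hcc
  have hML : L ≠ M := fun h => hcN (mem_normalizer_iff_cj.mpr (by rw [← hMdef, ← h]))
  have hMC := hcen Tr.comp hM hML
  -- a central element of `M` is trivial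
  have hZ : ∀ z ∈ M, z ∈ centralizer (M : Set G) → z = 1 := by
    intro z hz hzC
    rw [hMdef] at hz
    obtain ⟨l, hl, rfl⟩ := hz
    have h1 : l ∈ centralizer (L : Set G) := by
      rw [mem_centralizer_iff] at hzC ⊢
      intro y hy
      have h2 := hzC (c * y * c⁻¹) (by rw [hMdef]; exact conj_mem_cj hy)
      have h3 : (MulAut.conj c).toMonoidHom l = c * l * c⁻¹ := rfl
      rw [h3] at h2
      have h4 : c * (y * l) * c⁻¹ = c * (l * y) * c⁻¹ := by
        calc c * (y * l) * c⁻¹ = c * y * c⁻¹ * (c * l * c⁻¹) := by group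
          _ = c * l * c⁻¹ * (c * y * c⁻¹) := h2
          _ = _ := by group
      exact mul_left_cancel (mul_right_cancel h4)
    rw [eq_one_of_mem_centralizer R hl h1, map_one]
  obtain ⟨z, hz⟩ : ∃ z, z = c * s * c⁻¹ := ⟨_, rfl⟩
  have hzM : z ∈ M := by rw [hz, hMdef]; exact conj_mem_cj hs.mem
  have hzz : z * z = 1 := by
    rw [hz]
    calc c * s * c⁻¹ * (c * s * c⁻¹) = c * (s * s) * c⁻¹ := by group
      _ = 1 := by rw [hs.sq]; group
  have hz1 : z ≠ 1 := by
    rintro rfl
    apply hs.ne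
    calc s = c⁻¹ * (c * s * c⁻¹) * c := by group
      _ = 1 := by rw [← hz]; group
  have hMa : ∀ m ∈ M, m * a = a * m := fun m hm => comm_c (hM.le hm)
  have haM : a ∈ centralizer (M : Set G) := mem_centralizer_iff.mpr hMa
  have ha1 : a ≠ 1 := ne_one_of_order Tr.inva
  have hxx := sq_of_order Tr.invx
  have hxi : x⁻¹ = x := inv_eq_of_mul_eq_one_left hxx
  by_cases hxM : x ∈ normalizer (M : Set G)
  · have hev : Even (Nat.card M) := by
      have h1 := orderOf_dvd_natCard (⟨z, hzM⟩ : M)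
      rw [Subgroup.orderOf_mk, orderOf_eq_prime (p := 2) (by rw [pow_two]; exact hzz) hz1] at h1
      exact even_iff_two_dvd.mpr h1
    obtain ⟨w, hwM, hwo, hxw⟩ := StandardTools.exists_involution_commute hev hxx hxM
    have hww : w * w = 1 := sq_of_order hwo
    rcases star w (hMC w hwM) (hMa w hwM) hxw.symm hww with h | h
    · exact ne_one_of_order hwo h
    · rw [h] at hwM
      exact ha1 (hZ a hwM haM)
  · obtain ⟨N, hNdef⟩ : ∃ N, N = IntrinsicBasic.cj x M := ⟨_, rfl⟩
    have hN : IsComp (centralizer ({a} : Set G)) N := hNdef ▸ isComp_cj_of_mem hM hxc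
    have hNM : M ≠ N := fun h => hxM (mem_normalizer_iff_cj.mpr (by rw [← hNdef, ← h]))
    have hNL : L ≠ N := by
      intro h
      apply hML
      have h1 : IntrinsicBasic.cj x⁻¹ N = M := by rw [hNdef, cj_inv_cj]
      rw [← h, hxi, mem_normalizer_iff_cj.mp Tr.x_mem] at h1
      exact h1
    have hzN : x * z * x⁻¹ ∈ N := by rw [hNdef]; exact conj_mem_cj hzM
    obtain ⟨z', hz'⟩ : ∃ z', z' = x * z * x⁻¹ := ⟨_, rfl⟩
    rw [← hz'] at hzN
    have hz'C := hcen hM hN hNM z' hzN
    have hzz' : z * z' = z' * z := mem_centralizer_iff.mp hz'C z hzM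
    have hz'z' : z' * z' = 1 := by
      rw [hz']
      calc x * z * x⁻¹ * (x * z * x⁻¹) = x * (z * z) * x⁻¹ := by group
        _ = 1 := by rw [hzz]; group
    have e1 : x * z' * x⁻¹ = z := by
      rw [hz', hxi]
      calc x * (x * z * x) * x = (x * x) * z * (x * x) := by group
        _ = z := by rw [hxx]; group
    have h1 : z * z' * x = x * (z * z') := by
      have h2 : x * (z * z') * x⁻¹ = z * z' := by
        calc x * (z * z') * x⁻¹ = (x * z * x⁻¹) * (x * z' * x⁻¹) := by group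
          _ = z * z' := by rw [e1, ← hz', hzz']
      calc z * z' * x = x * (z * z') * x⁻¹ * x := by rw [h2]
        _ = x * (z * z') := by group
    have h2 : z * z' * (z * z') = 1 := by
      calc z * z' * (z * z') = z * (z' * z) * z' := by group
        _ = z * (z * z') * z' := by rw [hzz']
        _ = (z * z) * (z' * z') := by group
        _ = 1 := by rw [hzz, hz'z', one_mul]
    have hNa : z' * a = a * z' := comm_c (hN.le hzN)
    have h3 : z * z' * a = a * (z * z') := by
      rw [mul_assoc, hNa, ← mul_assoc, hMa z hzM, mul_assoc]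
    rcases star (z * z') (mul_mem (hMC z hzM) (hcen Tr.comp hN hNL z' hzN)) h3 h1 h2 with h | h
    · apply hz1
      apply hZ z hzM
      rw [mul_eq_one_iff_eq_inv.mp h]
      exact inv_mem hz'C
    · apply hz1
      apply hZ z hzM
      have h4 : z = a * z'⁻¹ := by rw [← h]; group
      rw [h4]
      exact mul_mem haM (inv_mem hz'C)

/-- The hypotheses of the abstract Theorem 4A. -/
theorem hyp_of {X : Subgroup G} {x a d r : G} {L T Q P : Subgroup G} (I : Idx X x) (H : Pgl G)
    (hN : NoFld G) (hcf : ∀ t ∈ X, orderOf t = 2 → core (centralizer ({t} : Set G)) = ⊥)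
    (Tr : IsTriple x a L) (C : Cfg a x d r L T Q P)
    (hT : ∀ U : Subgroup G, IsPGroup 2 U → T ≤ U → U ≤ T)
    (hTx : ∀ U : Subgroup G, IsPGroup 2 U → T ⊓ centralizer ({x} : Set G) ≤ U →
      U ≤ centralizer ({x} : Set G) → U ≤ T ⊓ centralizer ({x} : Set G))
    {w : G} (hw : w ∈ Q) (hwx : w * x = x * w) (hww : w * w = a)
    {q₀ : G} (hq₀ : q₀ ∈ Q) (hne : q₀ * x ≠ x * q₀)
    (h1 : ∀ b : G, b * b = 1 → b * a = a * b → b * x = x * b → Fixes b L → b = 1 ∨ b = a) :
    ∃ s, FourA.Basic.Hyp X L x a s := by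
  have hR : Cfg.One x a Q := by
    intro q hq hqx hqq
    obtain ⟨h2, h3⟩ := (C.Qdef q).mp hq
    exact h1 q hqq (C.a_comm h2) hqx h3
  obtain ⟨s, hs⟩ := C.exists_s
  have hx1 : x ≠ 1 := ne_one_of_order Tr.invx
  have haX : a ∈ X := hww ▸ I.sq_mem w
  have hca := hcf a haX Tr.inva
  have hcore : core L = ⊥ := by
    rw [eq_bot_iff, ← hca]
    exact Tr.comp.core_le_core
  obtain ⟨F, _, _, R, Hn⟩ := exists_hon H hN Tr hcore
  have hsL : s ∈ L := ((C.Pdef s).mp hs.mem).2
  have hS : ThE.Base.IsS L x s := ⟨hsL, hs.xs.symm, hs.ss, hs.s1⟩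
  have hLX : L ≤ X := I.perfect_le Tr.comp.perfect
  have hLa : ∀ l ∈ L, l * a = a * l := fun l hl => comm_c (Tr.comp.le hl)
  have hsa : s * a = a * s := hLa s hsL
  have has1 : a ≠ s := by
    rintro rfl
    exact C.s_not hs C.aQ
  have has : Four a s := ⟨C.a2, hs.ss, C.a1, hs.s1, has1, hsa.symm⟩
  have hxi : x⁻¹ = x := inv_eq_of_mul_eq_one_left I.xx
  have star : ∀ k ∈ centralizer (L : Set G), k * a = a * k → k * x = x * k → k * k = 1 →
      k = 1 ∨ k = a := fun k hk hka hkx hkk => h1 k hkk hka hkx ((fixes_iff hcore).mpr hk)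
  -- (3)
  have hO := core_le_a I hx1 H hN (fun htx huv e1 e2 e3 e4 e5 =>
    no_E16 C hs hR hTx htx huv e1 e2 e3 e4 e5) hcf has (hLX hsL) Tr.comm hs.xs.symm hwx
    (C.comm w hw s hs.mem) hww
  -- (1)
  have hcT : ∀ t ∈ T, t * s = s * t := by
    intro t ht
    have cs : ∀ q ∈ Q, ∀ p ∈ P, Commute (q * p) s := fun q hq p hp =>
      (show Commute q s from C.comm q hq s hs.mem).mul_left (hs.cP p hp).symm
    obtain ⟨q, hq, p, hp, rfl | rfl⟩ := C.cov t ht
    · exact cs q hq p hp
    · exact (cs q hq p hp).mul_left hs.xs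
  have hcTa : ∀ t ∈ T, t * a = a * t := fun t ht => C.a_comm ht
  have hcTas : ∀ t ∈ T, t * (a * s) = a * s * t := fun t ht =>
    (Commute.mul_right (hcTa t ht) (hcT t ht))
  have hnn : ∀ v, (∀ t ∈ T, t * v = v * t) → a ≠ v → ∀ g : G, g * a * g⁻¹ ≠ v := by
    intro v hv hav g hg
    obtain ⟨n, h3, h4, h5⟩ := burnside C.Tp hT hcTa hv hg
    exact hav ((C.cent_of_norm hs hR hw hwx hww h3 h4).symm.trans h5)
  have nas := hnn s hcT has1
  have naas := hnn (a * s) hcTas (fun h => hs.s1 (by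
    have h3 : a * 1 = a * s := by rw [mul_one]; exact h
    exact (mul_left_cancel h3).symm))
  -- (4)
  have hCx := cx_le (C.Tp.to_le inf_le_left) inf_le_right hTx C.a2 C.a1
    ⟨C.aT, mem_centralizer_singleton_iff.mpr Tr.comm⟩ (by
      intro g hgx hgT
      obtain ⟨b, hb⟩ : ∃ b, b = g * a * g⁻¹ := ⟨_, rfl⟩
      have hb1 : b ≠ 1 := by
        rintro rfl
        apply C.a1
        calc a = g⁻¹ * (g * a * g⁻¹) * g := by group
          _ = 1 := by rw [← hb]; group
      have hbX : b ∈ X := hb ▸ I.XN.conj_mem a haX g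
      have hbb : b * b = 1 := by
        rw [hb]
        calc g * a * g⁻¹ * (g * a * g⁻¹) = g * (a * a) * g⁻¹ := by group
          _ = 1 := by rw [C.a2]; group
      have nb := nas g
      have nb' := naas g
      rw [← hb] at hgT nb nb' ⊢
      obtain ⟨⟨e1, e2, e3⟩, h3⟩ := C.mem_eight hs hR hgT.1 (mem_centralizer_singleton_iff.mp hgT.2) hbb
      have h12 : (cond e1 a 1) * (cond e2 s 1) ∈ X := by
        refine X.mul_mem ?_ ?_
        · cases e1
          · exact X.one_mem
          · exact haX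
        · cases e2
          · exact X.one_mem
          · exact hLX hsL
      cases e3 with
      | true =>
        exfalso
        apply I.xX
        have h4 : x = ((cond e1 a 1) * (cond e2 s 1))⁻¹ * b := by
          rw [← h3]
          simp only [cond_true]
          group
        rw [h4]
        exact X.mul_mem (X.inv_mem h12) hbX
      | false =>
        simp only [cond_false, mul_one] at h3
        cases e1 <;> cases e2 <;> simp only [cond_true, cond_false, one_mul, mul_one] at h3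
        · exact absurd h3.symm hb1
        · exact absurd h3.symm nb
        · exact h3.symm
        · exact absurd h3.symm nb') hO
  -- (6)
  have hCaN := norm_ca R Tr hca hS star
  have H0 := Zero.hyp0_of I Hn.big Hn.cf haX C.a2 C.a1 Tr.comm.symm hLX hLa hS hCx hCaN star
    (hxa C hR hq₀ hne) nas naas
  refine ⟨s, H0, fun t₀ h m hm hn => ?_⟩
  have hea := H0.nine h hm
  have hes : m * a * m⁻¹ * s = s * (m * a * m⁻¹) := by
    refine (FourA.Basic.Hyp0.T0.sL H0 h hea).mp ?_
    have h3 := FourA.Basic.cj_comm (g := m) (FourA.Basic.Hyp0.T0.comm_a H0 h)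
    rw [FourA.Basic.cj_eq_of_comm hm] at h3
    exact h3.symm
  have hee : m * a * m⁻¹ * (m * a * m⁻¹) = 1 := FourA.Basic.cj_sq C.a2
  exact Facts.out Hn.cf hS (hCaN _ hea) hee hes
    (Hn.nf _ (hCaN _ hea) hea ⟨1, by rw [pow_one, pow_two]; exact hee⟩) hn

/-- **Theorem 4A.** -/
theorem false_of {X : Subgroup G} {x a : G} {L : Subgroup G} (I : Idx X x)
    (hmin : ∀ N : Subgroup G, N.Normal → N ≤ X → N ≠ ⊥ → X ≤ N) (H : Pgl G) (hN : NoFld G)
    (hO : OneInv G) (hcf : ∀ t ∈ X, orderOf t = 2 → core (centralizer ({t} : Set G)) = ⊥)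
    (hr : ¬ SectionalPRankLE 2 4 G) (Tr : IsTriple x a L) : False := by
  obtain ⟨F, _, _, h5, R, ho⟩ := H.exists_rep Tr
  rcases rank_or (sq_of_order Tr.inva) (ne_one_of_order Tr.inva) I.xx Tr.comm Tr.comp Tr.x_mem R
    (fun h => by
      obtain ⟨y, hy⟩ := h
      rw [← hy, R.o1_conj] at ho
      exact absurd ho (by decide)) (fun t ht hta h2 => hN x a L Tr F R t ht hta h2)
    (fun b hb hba hbx hf => hO x a L Tr b hb hba hbx hf) with h | ⟨T, Q, P, d, r, C, h1, h2, ⟨w, hw, hwx, hww⟩,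
      ⟨q₀, hq₀, hne⟩, -⟩
  · exact hr h
  · obtain ⟨s, Hs⟩ := hyp_of I H hN hcf Tr C h1 h2 hw hwx hww hq₀ hne (hO x a L Tr)
    exact Hs.false_of hmin I.cov

end Cfsg.Agent.UGT.FourA.Supply
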