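import Cfsg.Agent.UGT.FourA.Small
import Cfsg.Agent.UGT.Res.TorFacts

/-!
# Two involutions of `PSL(2,F)` centralized by an involutory automorphism
-/

set_option autoImplicit false

namespace Cfsg.Agent.UGT.FourA.TwoInv

open Matrix hiding J
open Cfsg.Agent.GH.L2Aut Cfsg.Agent.Lib.SL2Mat Cfsg.Agent.Lib.AutSL2
open Cfsg.Agent.UGT.Res.FldGen Cfsg.Agent.OddHalf.D6

variable {F : Type*} [Field F] [Finite F] {L : Type*} [Group L] (R : Cfsg.Agent.GH.L2Aut.Rep F L)

/-- a second involution commuting with `π J` -/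
theorem exists_w : ∃ w : L, w * w = 1 ∧ w ≠ 1 ∧ w ≠ R.π J ∧ w * R.π J = R.π J * w := by
  obtain ⟨c, d, hcd⟩ := Cfsg.Agent.GH.L2Aut.exists_sq_add_sq R.two (-1)
  obtain ⟨W, hW⟩ : ∃ W : Matrix.SpecialLinearGroup (Fin 2) F, W = mk c d d (-c) (by
    linear_combination -hcd) := ⟨_, rfl⟩
  have hWW : W * W = -1 := by
    rw [hW]
    refine ext_ent ?_ ?_ ?_ ?_ <;> rw [ent_mul]
    · change c * c + d * d = -1; linear_combination hcd
    · change c * d + d * -c = -(0 : F); ring
    · change d * c + -c * d = -(0 : F); ring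
    · change d * d + -c * -c = -1; linear_combination hcd
  have hJW : J * W = -(W * J) := by
    rw [hW]
    refine ext_ent ?_ ?_ ?_ ?_
    · rw [ent_mul]
      change (0 : F) * c + 1 * d = -ent (mk c d d (-c) _ * J) 0 0
      rw [ent_mul]
      change (0 : F) * c + 1 * d = -(c * 0 + d * -1)
      ring
    · rw [ent_mul]
      change (0 : F) * d + 1 * -c = -ent (mk c d d (-c) _ * J) 0 1
      rw [ent_mul]
      change (0 : F) * d + 1 * -c = -(c * 1 + d * 0)
      ring
    · rw [ent_mul]
      change (-1 : F) * c + 0 * d = -ent (mk c d d (-c) _ * J) 1 0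
      rw [ent_mul]
      change (-1 : F) * c + 0 * d = -(d * 0 + -c * -1)
      ring
    · rw [ent_mul]
      change (-1 : F) * d + 0 * -c = -ent (mk c d d (-c) _ * J) 1 1
      rw [ent_mul]
      change (-1 : F) * d + 0 * -c = -(d * 1 + -c * 0)
      ring
  refine ⟨R.π W, ?_, Cfsg.Agent.UGT.Res.FldCens.π_ne_one R hWW, ?_, ?_⟩
  · rw [← map_mul, R.ker]
    exact Or.inr hWW
  · rw [Ne, R.π_eq_iff]
    rintro (h | h)
    · have h1 := congrArg (fun x => ent x 0 1) h
      have h2 := congrArg (fun x => ent x 1 0) h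
      rw [hW] at h1 h2
      have e1 : d = 1 := h1
      have e2 : d = -1 := h2
      exact R.two (by linear_combination e2 - e1)
    · have h1 := congrArg (fun x => ent x 0 1) h
      have h2 := congrArg (fun x => ent x 1 0) h
      rw [hW] at h1 h2
      have e1 : d = -1 := h1
      have e2 : d = -(-1) := h2
      exact R.two (by linear_combination e1 - e2)
  · rw [← map_mul, ← map_mul, R.π_eq_iff, hJW, neg_neg]
    exact Or.inr rfl

include R in
/-- **two involutions fixed by `α`** -/
theorem two_inv (h5 : 4 < Nat.card F) {α : MulAut L} (hα : α * α = 1) :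
    ∃ u v : L, u ≠ v ∧ u * u = 1 ∧ u ≠ 1 ∧ v * v = 1 ∧ v ≠ 1 ∧ α u = u ∧ α v = v := by
  have hJJ := πJ_sq R
  have hJ1 := Cfsg.Agent.UGT.Res.FldCens.πJ_ne R
  by_cases hf : R.fld α = 1
  · rcases Int.units_eq_one_or (R.o1 α) with ho | ho
    · obtain ⟨v, rfl⟩ := R.mem_inn_iff.2 ⟨hf, ho⟩
      obtain ⟨w, hww, hw1, hwJ, hwc⟩ := exists_w R
      by_cases hv1 : v = 1
      · refine ⟨w, R.π J, hwJ, hww, hw1, hJJ, hJ1, ?_, ?_⟩ <;> rw [hv1, map_one] <;> rfl
      · have hvv : v * v = 1 := R.conj_injective (by rw [map_mul, hα, map_one])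
        obtain ⟨g, hg⟩ := R.inv_conj hvv hv1 hJJ hJ1
        refine ⟨g⁻¹ * w * g, v, ?_, ?_, ?_, hvv, hv1, ?_, ?_⟩
        · intro h
          apply hwJ
          rw [← hg, ← h]; group
        · calc g⁻¹ * w * g * (g⁻¹ * w * g) = g⁻¹ * (w * w) * g := by group
            _ = 1 := by rw [hww]; group
        · intro h
          apply hw1
          calc w = g * (g⁻¹ * w * g) * g⁻¹ := by group
            _ = 1 := by rw [h]; group
        · rw [MulAut.conj_apply]
          have h1 : v * (g⁻¹ * w * g) = (g⁻¹ * w * g) * v := by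
            calc v * (g⁻¹ * w * g) = g⁻¹ * ((g * v * g⁻¹) * w) * g := by group
              _ = g⁻¹ * (w * (g * v * g⁻¹)) * g := by rw [hg, hwc]
              _ = (g⁻¹ * w * g) * v := by group
          rw [h1]; group
        · rw [MulAut.conj_apply]; group
    · -- PGL type
      obtain ⟨y, hy, hyo, hy1⟩ := Cfsg.Agent.UGT.Res.TorFacts.exists_ne R h5 hα ho
      obtain ⟨v, hv, hvv, hv1⟩ := PglType.exists_fix_involution R hα ho
      have hinv := PglType.inverts R hα ho hv hvv hv1 hy hyo
      refine ⟨y * v * y⁻¹, v, ?_, ?_, ?_, hvv, hv1, ?_, hv⟩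
      · intro h
        apply hy1
        apply PglType.eq_one_of_odd_sq _ hyo
        have h1 : v * y * v⁻¹ = y := by
          have h2 : y * v = v * y := by
            calc y * v = y * v * y⁻¹ * y := by group
              _ = v * y := by rw [h]
          rw [← h2]; group
        rw [hinv] at h1
        calc y * y = y * y⁻¹ := by rw [h1]
          _ = 1 := by group
      · calc y * v * y⁻¹ * (y * v * y⁻¹) = y * (v * v) * y⁻¹ := by group
          _ = 1 := by rw [hvv]; group
      · intro h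
        apply hv1
        calc v = y⁻¹ * (y * v * y⁻¹) * y := by group
          _ = 1 := by rw [h]; group
      · rw [map_mul, map_mul, map_inv, hy, hv]
  · -- field type
    obtain ⟨σ, hσ⟩ : ∃ σ, σ = R.fld α := ⟨_, rfl⟩
    have hσ2 : σ * σ = 1 := by rw [hσ, ← map_mul, hα, map_one]
    have hord : orderOf (R.fld α) = 2 := by
      rw [orderOf_eq_prime_iff]
      exact ⟨by rw [sq, ← hσ]; exact hσ2, hf⟩
    obtain ⟨R', -, -, hR'⟩ := R.exists_rep α (by rw [hord, sq, hα])
    have hJJ' := πJ_sq R'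
    have hJ1' := Cfsg.Agent.UGT.Res.FldCens.πJ_ne R'
    have hfix : ∀ z, fieldAut (R.fld α) z = z → α (R'.π z) = R'.π z := by
      intro z hz
      rw [hR', R'.fa_apply, hz]
    have hup : fieldAut (R.fld α) (up (1 : F)) = up 1 := by rw [fieldAut_up, map_one]
    have hJf : fieldAut (R.fld α) (J : Matrix.SpecialLinearGroup (Fin 2) F) = J := by
      refine ext_ent ?_ ?_ ?_ ?_
      · change R.fld α 0 = 0; exact map_zero _
      · change R.fld α 1 = 1; exact map_one _
      · change R.fld α (-1) = -1; rw [map_neg, map_one]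
      · change R.fld α 0 = 0; exact map_zero _
    refine ⟨R'.π (up 1) * R'.π J * (R'.π (up 1))⁻¹, R'.π J, ?_, ?_, ?_, hJJ', hJ1', ?_, hfix _ hJf⟩
    · intro h
      have h1 : R'.π (up 1 * J) = R'.π (J * up 1) := by
        rw [map_mul, map_mul]
        calc R'.π (up 1) * R'.π J = R'.π (up 1) * R'.π J * (R'.π (up 1))⁻¹ * R'.π (up 1) := by group
          _ = R'.π J * R'.π (up 1) := by rw [h]
      rw [R'.π_eq_iff] at h1
      rcases h1 with h1 | h1
      · have h2 := congrArg (fun x => ent x 0 0) h1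
        simp only [ent_mul] at h2
        have h3 : (1 : F) * 0 + 1 * -1 = 0 * 1 + 1 * 0 := h2
        have h4 : (1 : F) = 0 := by linear_combination -h3
        exact one_ne_zero h4
      · have h2 := congrArg (fun x => ent x 0 0) h1
        have h5 : ent (-(J * up (1 : F))) 0 0 = -ent (J * up (1 : F)) 0 0 := rfl
        simp only [h5, ent_mul] at h2
        have h3 : (1 : F) * 0 + 1 * -1 = -(0 * 1 + 1 * 0) := h2
        have h4 : (1 : F) = 0 := by linear_combination -h3
        exact one_ne_zero h4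
    · calc R'.π (up 1) * R'.π J * (R'.π (up 1))⁻¹ * (R'.π (up 1) * R'.π J * (R'.π (up 1))⁻¹) =
          R'.π (up 1) * (R'.π J * R'.π J) * (R'.π (up 1))⁻¹ := by group
        _ = 1 := by rw [hJJ']; group
    · intro h
      apply hJ1'
      calc R'.π J = (R'.π (up 1))⁻¹ * (R'.π (up 1) * R'.π J * (R'.π (up 1))⁻¹) * R'.π (up 1) := by group
        _ = 1 := by rw [h]; group
    · rw [map_mul, map_mul, map_inv, hfix _ hup, hfix _ hJf]

end Cfsg.Agent.UGT.FourA.TwoInv
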