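import Cfsg.Agent.UGT.FourA.TenF
import Cfsg.Agent.UGT.FourA.TwoInv
import Cfsg.Agent.UGT.FourA.Supply
import Cfsg.Agent.UGT.SLCore
import Cfsg.Agent.UGT.Res.CfOf

/-!
# Theorem 4A with field type 2-elements: `O(C(x)) ≤ C(a)` and `x ^ n = xa`, `n ∈ C(L) ∩ C(a)`, is impossible
-/

set_option autoImplicit false

open Cfsg Subgroup
open Cfsg.Agent.SignalizersComponents Cfsg.Agent.Lib
open Cfsg.Agent.SignalizersComponents.IntrinsicBasic
open Cfsg.Agent.Intrinsic.Basic Cfsg.Agent.Intrinsic.Cen
open Cfsg.Agent.UGT.Triple Cfsg.Agent.UGT.Iface Cfsg.Agent.UGT.Res.KFacts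
open Cfsg.Agent.UGT.Res.EFacts Cfsg.Agent.UGT.FourA.Hon Cfsg.Agent.UGT.FourA.Top
open Cfsg.Agent.OddHalf.D6
open Cfsg.Agent.UGT.ThE.Base (IsS)

namespace Cfsg.Agent.UGT.FourA.Al

universe u

section loc

variable {G : Type u} [Group G] [Finite G] {X L : Subgroup G} {x a s : G}
variable {F : Type*} [Field F] [Finite F] {R : Cfsg.Agent.GH.L2Aut.Rep F L}

/-- the local data -/
structure Loc (X L : Subgroup G) (x a : G) {F : Type*} [Field F] [Finite F]
    (R : Cfsg.Agent.GH.L2Aut.Rep F L) : Prop where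
  idx : Idx X x
  cf : Cf R x
  big : 5 ≤ Nat.card F
  aX : a ∈ X
  aa : a * a = 1
  a1 : a ≠ 1
  xa : x * a = a * x
  LX : L ≤ X
  La : ∀ l ∈ L, l * a = a * l
  CaN : ∀ c, c * a = a * c → c ∈ normalizer (L : Set G)
  star : ∀ k ∈ centralizer (L : Set G), k * a = a * k → k * x = x * k → k * k = 1 → k = 1 ∨ k = a

omit [Finite G] in
theorem Loc.quad (H : Loc X L x a R) {u : G} (hu : u ∈ X) (hux : u * x = x * u) (hua : u * a = a * u)
    (huu : u * u = 1) (hu1 : u ≠ 1) : u = a ∨ ∃ s', IsS L x s' ∧ (u = s' ∨ u = a * s') := by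
  have haX := H.aX
  have huN := H.CaN u hua
  have hxx := H.idx.xx
  have hc1 : u * x * u⁻¹ * x⁻¹ ∈ centralizer (L : Set G) := by
    have : u * x * u⁻¹ * x⁻¹ = 1 := by rw [hux]; group
    rw [this]
    exact one_mem _
  rcases H.cf.cenx u huN huu hc1 with h3 | h3 | ⟨s', hs', h3 | h3⟩
  · exact Or.inl ((H.star u h3 hua hux huu).resolve_left hu1)
  · exfalso
    have e1 : u * x * x = x * (u * x) := by rw [← mul_assoc, ← hux]
    have e2 : u * x * (u * x) = 1 := by
      calc u * x * (u * x) = u * (x * u) * x := by group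
        _ = (u * u) * (x * x) := by rw [← hux]; group
        _ = 1 := by rw [huu, hxx, one_mul]
    have e3 : u * x * a = a * (u * x) := by
      rw [mul_assoc, H.xa, ← mul_assoc, hua, mul_assoc]
    rcases H.star _ h3 e3 e1 e2 with h4 | h4
    · apply H.idx.xX
      rw [eq_inv_of_mul_eq_one_right h4]
      exact X.inv_mem hu
    · apply H.idx.xX
      have h5 : x = u⁻¹ * a := by rw [← h4]; group
      rw [h5]
      exact X.mul_mem (X.inv_mem hu) haX
  · have e0 : s' * (u * s') = u * s' * s' := mem_centralizer_iff.mp h3 s' hs'.mem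
    have e1 : s' * u = u * s' := by
      have : s' * u * s' = u * s' * s' := by rw [mul_assoc]; exact e0
      exact mul_right_cancel this
    have e2 : u * s' * (u * s') = 1 := by
      calc u * s' * (u * s') = u * (s' * u) * s' := by group
        _ = (u * u) * (s' * s') := by rw [e1]; group
        _ = 1 := by rw [huu, hs'.sq, one_mul]
    have e3 : u * s' * a = a * (u * s') := by
      rw [mul_assoc, H.La s' hs'.mem, ← mul_assoc, hua, mul_assoc]
    have e4 : u * s' * x = x * (u * s') := by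
      rw [mul_assoc, hs'.comm, ← mul_assoc, hux, mul_assoc]
    have hs'i : s'⁻¹ = s' := inv_eq_of_mul_eq_one_left hs'.sq
    right
    refine ⟨s', hs', ?_⟩
    rcases H.star _ h3 e3 e4 e2 with h4 | h4
    · left
      rw [mul_eq_one_iff_eq_inv.mp h4, hs'i]
    · right
      calc u = u * s' * s'⁻¹ := by group
        _ = a * s' := by rw [h4, hs'i]
  · exfalso
    have hs'X : s' ∈ X := H.LX hs'.mem
    obtain ⟨y, hy⟩ : ∃ y, y = u * x := ⟨_, rfl⟩
    rw [← hy] at h3
    have e0 : s' * (y * s') = y * s' * s' := mem_centralizer_iff.mp h3 s' hs'.mem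
    have e1 : s' * y = y * s' := by
      have : s' * y * s' = y * s' * s' := by rw [mul_assoc]; exact e0
      exact mul_right_cancel this
    have hyy : y * y = 1 := by
      rw [hy]
      calc u * x * (u * x) = u * (x * u) * x := by group
        _ = (u * u) * (x * x) := by rw [← hux]; group
        _ = 1 := by rw [huu, hxx, one_mul]
    have hyx : y * x = x * y := by rw [hy, ← mul_assoc, ← hux]
    have hya : y * a = a * y := by
      rw [hy, mul_assoc, H.xa, ← mul_assoc, hua, mul_assoc]
    have e2 : y * s' * (y * s') = 1 := by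
      calc y * s' * (y * s') = y * (s' * y) * s' := by group
        _ = (y * y) * (s' * s') := by rw [e1]; group
        _ = 1 := by rw [hyy, hs'.sq, one_mul]
    have e3 : y * s' * a = a * (y * s') := by
      rw [mul_assoc, H.La s' hs'.mem, ← mul_assoc, hya, mul_assoc]
    have e4 : y * s' * x = x * (y * s') := by
      rw [mul_assoc, hs'.comm, ← mul_assoc, hyx, mul_assoc]
    have hyX : y ∈ X := by
      rcases H.star _ h3 e3 e4 e2 with h4 | h4
      · rw [mul_eq_one_iff_eq_inv.mp h4]
        exact X.inv_mem hs'X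
      · have h5 : y = a * s'⁻¹ := by rw [← h4]; group
        rw [h5]
        exact X.mul_mem haX (X.inv_mem hs'X)
    apply H.idx.xX
    have h5 : x = u⁻¹ * y := by rw [hy]; group
    rw [h5]
    exact X.mul_mem (X.inv_mem hu) hyX

/-- **`C(x) ≤ C(a)`** -/
theorem Loc.cx_le (H : Loc X L x a R) (hOa : ∀ e ∈ core (centralizer ({x} : Set G)), e * a = a * e)
    {y : G} (hyO : y ∈ core (centralizer ({x} : Set G))) (hyL : y ∈ L) (hy1 : y ≠ 1) (c : G)
    (hc : c * x = x * c) : c * a = a * c := by
  have hyx : y * x = x * y := comm_c (core_le _ hyO)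
  obtain ⟨C2, hC2⟩ : ∃ C2, C2 = X ⊓ centralizer ({x} : Set G) ⊓
    centralizer (core (centralizer ({x} : Set G)) : Set G) := ⟨_, rfl⟩
  have hmem : ∀ g, g ∈ C2 ↔ g ∈ X ∧ g * x = x * g ∧
      ∀ e ∈ core (centralizer ({x} : Set G)), e * g = g * e := by
    intro g
    rw [hC2]
    constructor
    · rintro ⟨⟨h1, h2⟩, h3⟩
      exact ⟨h1, mem_centralizer_singleton_iff.mp h2, mem_centralizer_iff.mp h3⟩
    · rintro ⟨h1, h2, h3⟩
      exact ⟨⟨h1, mem_centralizer_singleton_iff.mpr h2⟩, mem_centralizer_iff.mpr h3⟩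
  -- (i)
  have uniq : ∀ u ∈ C2, u * u = 1 → u ≠ 1 → u * a = a * u → u = a := by
    intro u hu huu hu1 hua
    obtain ⟨huX, hux, huO⟩ := (hmem u).mp hu
    rcases H.quad huX hux hua huu hu1 with h | ⟨s', hs', h⟩
    · exact h
    · exfalso
      have h1 : s' * y = y * s' := by
        have h2 := huO y hyO
        rcases h with h | h
        · rw [← h, h2]
        · rw [h] at h2
          apply mul_left_cancel (a := a)
          calc a * (s' * y) = a * s' * y := by group
            _ = y * (a * s') := h2.symm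
            _ = (y * a) * s' := by group
            _ = a * (y * s') := by rw [H.La y hyL]; group
      have hyo : Odd (orderOf y) := by
        have h4 := orderOf_dvd_natCard (⟨y, hyO⟩ : ↥(core (centralizer ({x} : Set G))))
        rw [Subgroup.orderOf_mk] at h4
        exact Odd.of_dvd_nat (odd_card_core _) h4
      have hyo' : Odd (orderOf (⟨y, hyL⟩ : L)) := by rwa [Subgroup.orderOf_mk]
      have h5 := PglType.inverts R H.cf.sq (H.cf.o1 H.cf.xN) (v := ⟨s', hs'.mem⟩) (b := ⟨y, hyL⟩)
        ((act_fix H.cf.xN hs'.mem).mpr hs'.comm) (Subtype.ext hs'.sq)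
        (fun h => hs'.ne (congrArg Subtype.val h)) ((act_fix H.cf.xN hyL).mpr hyx) hyo'
      have h6 : s' * y * s'⁻¹ = y⁻¹ := congrArg Subtype.val h5
      have h7 : s' * y * s'⁻¹ = y := by rw [h1]; group
      rw [h7] at h6
      have h8 : y * y = 1 := by
        calc y * y = y * y⁻¹ := by rw [← h6]
          _ = 1 := by group
      apply hy1
      exact congrArg Subtype.val (PglType.eq_one_of_odd_sq (g := (⟨y, hyL⟩ : L)) (Subtype.ext h8) hyo')
  have haC2 : a ∈ C2 := (hmem a).mpr ⟨H.aX, H.xa.symm, hOa⟩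
  -- conjugation by `C(x)`
  have hconj : ∀ c, c * x = x * c → ∀ g ∈ C2, c * g * c⁻¹ ∈ C2 := by
    intro c hc g hg
    obtain ⟨h1, h2, h3⟩ := (hmem g).mp hg
    refine (hmem _).mpr ⟨H.idx.XN.conj_mem g h1 c, ?_, ?_⟩
    · have h4 : x = c * x * c⁻¹ := by rw [hc]; group
      calc c * g * c⁻¹ * x = c * g * c⁻¹ * (c * x * c⁻¹) := by rw [← h4]
        _ = c * (g * x) * c⁻¹ := by group
        _ = c * (x * g) * c⁻¹ := by rw [h2]
        _ = (c * x * c⁻¹) * (c * g * c⁻¹) := by group
        _ = x * (c * g * c⁻¹) := by rw [← h4]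
    · intro e he
      have h4 : c⁻¹ * e * c ∈ core (centralizer ({x} : Set G)) := by
        have h5 := conj_core (H := centralizer ({x} : Set G)) (h := c⁻¹) (inv_mem (mem_c hc)) he
        rwa [inv_inv] at h5
      have h5 := h3 _ h4
      calc e * (c * g * c⁻¹) = c * ((c⁻¹ * e * c) * g) * c⁻¹ := by group
        _ = c * (g * (c⁻¹ * e * c)) * c⁻¹ := by rw [h5]
        _ = c * g * c⁻¹ * e := by group
  -- Z*
  have hcen : ∀ g ∈ C2, g * a = a * g := by
    rcases SL.zstar_sub (X := C2) haC2 H.aa H.a1 with ⟨h, hh, hne, hcm⟩ | ⟨N, hN, hodd, hnor, hcom⟩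
    · exfalso
      apply hne
      apply uniq _ (mul_mem (mul_mem hh haC2) (inv_mem hh))
      · calc h * a * h⁻¹ * (h * a * h⁻¹) = h * (a * a) * h⁻¹ := by group
          _ = 1 := by rw [H.aa]; group
      · intro h1
        apply H.a1
        calc a = h⁻¹ * (h * a * h⁻¹) * h := by group
          _ = 1 := by rw [h1]; group
      · exact hcm.symm
    · intro g hg
      have hNc : N ≤ core C2 := by
        refine le_core hN ?_ hodd
        intro c hc
        rw [mem_normalizer_iff]
        intro n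
        refine ⟨hnor c hc n, fun hn => ?_⟩
        have h1 := hnor c⁻¹ (inv_mem hc) _ hn
        have e : c⁻¹ * (c * n * c⁻¹) * c⁻¹⁻¹ = n := by group
        rwa [e] at h1
      have hC2x : C2 ≤ centralizer ({x} : Set G) := fun g hg => mem_c ((hmem g).mp hg).2.1
      have hsn : (C2.subgroupOf (centralizer ({x} : Set G))).IsSubnormal := by
        have h1 : (C2.subgroupOf (centralizer ({x} : Set G))).Normal := by
          refine ⟨fun n hn g => ?_⟩
          exact hconj g (comm_c g.2) n hn
        exact h1.isSubnormal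
      have hcc : core C2 ≤ core (centralizer ({x} : Set G)) := by
        rw [core_eq_inf_of_subnormal hC2x hsn]
        exact inf_le_right
      have h1 := hcc (hNc (hcom g hg))
      have h2 := hOa _ h1
      have hai : a⁻¹ = a := inv_eq_of_mul_eq_one_left H.aa
      obtain ⟨b, hb⟩ : ∃ b, b = g * a * g⁻¹ := ⟨_, rfl⟩
      have hbb : b * b = 1 := by
        rw [hb]
        calc g * a * g⁻¹ * (g * a * g⁻¹) = g * (a * a) * g⁻¹ := by group
          _ = 1 := by rw [H.aa]; group
      have h3 : a * g * a⁻¹ * g⁻¹ = a * b := by rw [hb, hai]; group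
      rw [h3] at h1 h2
      have h4 : b * a = a * b := by
        have : a * (b * a) = a * (a * b) := by
          calc a * (b * a) = a * b * a := by group
            _ = a * (a * b) := h2
        exact mul_left_cancel this
      have h5 : a * b * (a * b) = 1 := by
        calc a * b * (a * b) = a * (b * a) * b := by group
          _ = a * (a * b) * b := by rw [h4]
          _ = (a * a) * (b * b) := by group
          _ = 1 := by rw [H.aa, hbb, one_mul]
      have h6 := eq_one_of_mem_core_sq h1 h5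
      have h7 : b = a := by
        have h8 := mul_eq_one_iff_eq_inv.mp h6
        rw [h8, inv_eq_of_mul_eq_one_left hbb]
      calc g * a = g * a * g⁻¹ * g := by group
        _ = a * g := by rw [← hb, h7]
  have h1 := hconj c hc a haC2
  have h2 : c * a * c⁻¹ = a := by
    apply uniq _ h1
    · calc c * a * c⁻¹ * (c * a * c⁻¹) = c * (a * a) * c⁻¹ := by group
        _ = 1 := by rw [H.aa]; group
    · intro h3
      apply H.a1
      calc a = c⁻¹ * (c * a * c⁻¹) * c := by group
        _ = 1 := by rw [h3]; group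
    · exact hcen _ h1
  calc c * a = c * a * c⁻¹ * c := by group
    _ = a * c := by rw [h2]

omit [Finite G] in
/-- **`a` is not conjugate to `s`, `as`** -/
theorem Loc.nat (H : Loc X L x a R) (hCx : ∀ c, c * x = x * c → c * a = a * c) (hS : IsS L x s)
    {t₀ : G} (h : t₀ = s ∨ t₀ = a * s) (g : G) : g * a * g⁻¹ ≠ t₀ := by
  intro hg
  have hsa : s * a = a * s := H.La s hS.mem
  have ht₀x : t₀ * x = x * t₀ := by
    rcases h with h | h
    · rw [h, hS.comm]
    · rw [h, mul_assoc, hS.comm, ← mul_assoc, ← H.xa, mul_assoc]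
  -- `e = g⁻¹ x g`
  obtain ⟨e, he⟩ : ∃ e, e = g⁻¹ * x * g := ⟨_, rfl⟩
  have hea : e * a = a * e := by
    rw [he]
    apply FourA.Basic.comm_cj_iff.mp
    rw [hg]; exact ht₀x.symm
  have heN := H.CaN e hea
  have hee : e * e = 1 := by
    rw [he]
    calc g⁻¹ * x * g * (g⁻¹ * x * g) = g⁻¹ * (x * x) * g := by group
      _ = 1 := by rw [H.idx.xx]; group
  obtain ⟨u, v, huv, huu, hu1, hvv, hv1, hαu, hαv⟩ := TwoInv.two_inv R (by have := H.big; omega)
    (act_sq heN hee)
  have haL : a ∉ L := by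
    intro h1
    apply H.a1
    exact eq_one_of_mem_centralizer R h1 (mem_centralizer_iff.mpr H.La)
  -- elements
  have key : ∀ w : L, w * w = 1 → w ≠ 1 → act L e heN w = w →
      (g * (w : G) * g⁻¹ = a ∨ g * (w : G) * g⁻¹ = s ∨ g * (w : G) * g⁻¹ = a * s) ∧
        g * (w : G) * g⁻¹ ≠ t₀ := by
    intro w hww hw1 hw
    have hwe : (w : G) * e = e * w := (act_fix heN w.2).mp hw
    have hww' : (w : G) * w = 1 := congrArg Subtype.val hww
    have hw1' : (w : G) ≠ 1 := fun h => hw1 (Subtype.ext h)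
    obtain ⟨W, hW⟩ : ∃ W, W = g * (w : G) * g⁻¹ := ⟨_, rfl⟩
    have hWX : W ∈ X := hW ▸ H.idx.XN.conj_mem _ (H.LX w.2) g
    have hWx : W * x = x * W := by
      have h1 : x = g * e * g⁻¹ := by rw [he]; group
      rw [hW, h1]
      exact FourA.Basic.cj_comm hwe
    have hWt : W * t₀ = t₀ * W := by
      rw [hW, ← hg]
      exact FourA.Basic.cj_comm (H.La w w.2)
    have hWW : W * W = 1 := hW ▸ FourA.Basic.cj_sq hww'
    have hW1 : W ≠ 1 := hW ▸ FourA.Basic.cj_ne hw1'
    have hWa := hCx W hWx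
    have hWs : W * s = s * W := by
      rcases h with h | h
      · rw [← h]; exact hWt
      · rw [h] at hWt
        apply mul_left_cancel (a := a)
        calc a * (W * s) = (W * a) * s := by rw [hWa]; group
          _ = W * (a * s) := by group
          _ = a * s * W := hWt
          _ = a * (s * W) := by group
    rw [← hW]
    refine ⟨?_, ?_⟩
    · rcases H.quad hWX hWx hWa hWW hW1 with h1 | ⟨s', hs', h1 | h1⟩
      · exact Or.inl h1
      · right; left
        rw [h1]
        exact H.cf.comm s' s hs' hS (by rw [← h1]; exact hWs)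
      · right; right
        have h2 : s' * s = s * s' := by
          rw [h1] at hWs
          apply mul_left_cancel (a := a)
          calc a * (s' * s) = a * s' * s := by group
            _ = s * (a * s') := hWs
            _ = (s * a) * s' := by group
            _ = a * (s * s') := by rw [hsa]; group
        rw [h1, H.cf.comm s' s hs' hS h2]
    · intro h1
      apply haL
      have h2 : a = w := by
        rw [hW, ← hg] at h1
        exact (mul_left_cancel (mul_right_cancel h1)).symm
      rw [h2]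
      exact w.2
  obtain ⟨hu2, hu3⟩ := key u huu hu1 hαu
  obtain ⟨hv2, hv3⟩ := key v hvv hv1 hαv
  have hne : g * (u : G) * g⁻¹ ≠ g * (v : G) * g⁻¹ := fun h1 =>
    huv (Subtype.ext (mul_left_cancel (mul_right_cancel h1)))
  obtain ⟨U, hU⟩ : ∃ U, U = g * (u : G) * g⁻¹ := ⟨_, rfl⟩
  obtain ⟨V, hV⟩ : ∃ V, V = g * (v : G) * g⁻¹ := ⟨_, rfl⟩
  have hprod : U * V = t₀ := by
    rw [← hU, ← hV] at hne
    rw [← hU] at hu2 hu3
    rw [← hV] at hv2 hv3
    have e1 : a * (a * s) = s := by rw [← mul_assoc, H.aa, one_mul]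
    have e2 : (a * s) * a = s := by rw [mul_assoc, hsa, ← mul_assoc, H.aa, one_mul]
    rcases h with h | h <;> rw [h] at hu3 hv3 ⊢
    · rcases hu2 with h1 | h1 | h1 <;> rcases hv2 with h2 | h2 | h2
      · exact absurd (h1.trans h2.symm) hne
      · exact absurd h2 hv3
      · rw [h1, h2, e1]
      · exact absurd h1 hu3
      · exact absurd h1 hu3
      · exact absurd h1 hu3
      · rw [h1, h2, e2]
      · exact absurd h2 hv3
      · exact absurd (h1.trans h2.symm) hne
    · rcases hu2 with h1 | h1 | h1 <;> rcases hv2 with h2 | h2 | h2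
      · exact absurd (h1.trans h2.symm) hne
      · rw [h1, h2]
      · exact absurd h2 hv3
      · rw [h1, h2, hsa]
      · exact absurd (h1.trans h2.symm) hne
      · exact absurd h2 hv3
      · exact absurd h1 hu3
      · exact absurd h1 hu3
      · exact absurd h1 hu3
  apply haL
  have h1 : a = (u : G) * v := by
    rw [hU, hV, ← hg, ← FourA.Basic.cj_mul] at hprod
    exact (mul_left_cancel (mul_right_cancel hprod)).symm
  rw [h1]
  exact mul_mem u.2 v.2

/-- **the abstract form** -/
theorem Loc.false_of (H : Loc X L x a R) (hX : X ≤ commutator G)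
    (hmin : ∀ N : Subgroup G, N.Normal → N ≤ X → N ≠ ⊥ → X ≤ N)
    (hOa : ∀ e ∈ core (centralizer ({x} : Set G)), e * a = a * e)
    {y : G} (hyO : y ∈ core (centralizer ({x} : Set G))) (hyL : y ∈ L) (hy1 : y ≠ 1)
    {n : G} (hn : n ∈ centralizer (L : Set G)) (hnx : n * x * n⁻¹ = x * a) : False := by
  obtain ⟨⟨s, hs⟩, h1, h2, h3⟩ := PglType.exists_fix_involution R H.cf.sq (H.cf.o1 H.cf.xN)
  have hS : IsS L x s := ⟨hs, (act_fix H.cf.xN hs).mp h1, congrArg Subtype.val h2,
    fun h => h3 (Subtype.ext h)⟩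
  have hCx := H.cx_le hOa hyO hyL hy1
  have H0 := Zero.hyp0_of H.idx H.big H.cf H.aX H.aa H.a1 H.xa H.LX H.La hS hCx H.CaN H.star
    ⟨n, hnx⟩ (H.nat hCx hS (Or.inl rfl)) (H.nat hCx hS (Or.inr rfl))
  have Hh : FourA.Basic.Hyp X L x a s := by
    refine ⟨H0, fun t₀ h m hm hn' => ?_⟩
    have hea := H0.nine h hm
    have hes : m * a * m⁻¹ * s = s * (m * a * m⁻¹) := by
      refine (FourA.Basic.Hyp0.T0.sL H0 h hea).mp ?_
      have h3 := FourA.Basic.cj_comm (g := m) (FourA.Basic.Hyp0.T0.comm_a H0 h)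
      rw [FourA.Basic.cj_eq_of_comm hm] at h3
      exact h3.symm
    have hee : m * a * m⁻¹ * (m * a * m⁻¹) = 1 := FourA.Basic.cj_sq H.aa
    exact Facts.out H.cf hS (H.CaN _ hea) hee hes
      (TenF.no_fld H0 H.cf H.idx.cov hX hn hnx h hm _) hn'
  exact Hh.false_of hmin H.idx.cov

end loc

variable {G : Type u} [Group G] [Finite G]

/-- **(al)** -/
theorem al {X : Subgroup G} {x a n : G} {L : Subgroup G} (I : Idx X x) (hX : X ≤ commutator G)
    (hmin : ∀ N : Subgroup G, N.Normal → N ≤ X → N ≠ ⊥ → X ≤ N) (H : Pgl G) (hO : OneInv G)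
    (hca : core (centralizer ({a} : Set G)) = ⊥) (Tr : IsTriple x a L)
    (hOa : ∀ e ∈ core (centralizer ({x} : Set G)), e * a = a * e)
    (hn : n ∈ centralizer (L : Set G)) (hnx : n * x * n⁻¹ = x * a) : False := by
  have haX : a ∈ X := by
    have h1 := I.comm_mem n x
    rw [commutatorElement_def, hnx] at h1
    have h2 : x * a * x⁻¹ = a := by rw [← Tr.comm]; group
    rwa [h2] at h1
  have hcore : core L = ⊥ := by
    rw [eq_bot_iff, ← hca]
    exact Tr.comp.core_le_core
  obtain ⟨F, _, _, h5, ⟨R⟩⟩ := Res.CfOf.exists_R H Tr hcore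
  have hcf := Res.CfOf.cf_of H Tr hcore R
  obtain ⟨⟨s, hs⟩, h1, h2, h3⟩ := PglType.exists_fix_involution R hcf.sq (hcf.o1 hcf.xN)
  have hS : IsS L x s := ⟨hs, (act_fix hcf.xN hs).mp h1, congrArg Subtype.val h2,
    fun h => h3 (Subtype.ext h)⟩
  have star : ∀ k ∈ centralizer (L : Set G), k * a = a * k → k * x = x * k → k * k = 1 →
      k = 1 ∨ k = a := fun k hk hka hkx hkk =>
    hO x a L Tr k hkk hka hkx ((fixes_iff hcore).mpr hk)
  obtain ⟨y, hyO, hyL, hyf⟩ := H.exists_y Tr
  have hy1 : y ≠ 1 := by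
    rintro rfl
    exact hyf ((fixes_iff hcore).mpr (one_mem _))
  have HL : Loc X L x a R :=
    { idx := I
      cf := hcf
      big := h5
      aX := haX
      aa := sq_of_order Tr.inva
      a1 := ne_one_of_order Tr.inva
      xa := Tr.comm.symm
      LX := I.perfect_le Tr.comp.perfect
      La := fun l hl => comm_c (Tr.comp.le hl)
      CaN := Supply.norm_ca R Tr hca hS star
      star := star }
  exact HL.false_of hX hmin hOa hyO hyL hy1 hn hnx

end Cfsg.Agent.UGT.FourA.Al
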