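import Cfsg.Agent.UGT.ThE.Base

/-!
# `m(C_Q(x)) = 1`, `x ∉ X`: the end (Theorem 4A), I

`a` an involution of `X`, `L` simple, normal in `C(a)`, `K = C(a) ∩ C(L)`, `C(a) = (K × L)⟨x⟩`, `a` the only
involution of `C_K(x)`, `C(x) ≤ C(a)`; `s ∈ L` the involution commuting with `x`; `a`, `s`, `as` not conjugate.
-/

set_option autoImplicit false

open Subgroup

namespace Cfsg.Agent.UGT.FourA.Basic

open Cfsg.Agent.UGT.ThE Cfsg.Agent.UGT.ThE.Base

variable {G : Type*} [Group G]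

/-- the hypotheses without `out` -/
structure Hyp0 (X L : Subgroup G) (x a s : G) : Prop where
  XN : X.Normal
  xX : x ∉ X
  xx : x * x = 1
  aX : a ∈ X
  aa : a * a = 1
  a1 : a ≠ 1
  LX : L ≤ X
  La : ∀ l ∈ L, l * a = a * l
  simp : ∀ N : Subgroup G, N ≤ L → (∀ l ∈ L, ∀ n ∈ N, l * n * l⁻¹ ∈ N) → N = ⊥ ∨ N = L
  nab : ¬ ∀ l ∈ L, l ∈ centralizer (L : Set G)
  big : 27 < Nat.card L
  xLK : ∀ l ∈ L, x * l ∉ centralizer (L : Set G)
  Cx : ∀ c, c * x = x * c → c * a = a * c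
  CaN : ∀ c, c * a = a * c → c ∈ normalizer (L : Set G)
  perf : ∀ g : G, (∀ l ∈ L, g * l * g⁻¹ * a = a * (g * l * g⁻¹)) → ∀ l ∈ L,
    ∃ l' ∈ L, g * l * g⁻¹ * l' ∈ centralizer (L : Set G)
  star : ∀ k ∈ centralizer (L : Set G), k * a = a * k → k * x = x * k → k * k = 1 → k = 1 ∨ k = a
  hxa : ∃ g : G, g * x * g⁻¹ = x * a
  sL : s ∈ L
  ss : s * s = 1
  s1 : s ≠ 1
  sx : s * x = x * s
  invL : ∀ i ∈ L, i * i = 1 → i ≠ 1 → ∃ l ∈ L, l * i * l⁻¹ = s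
  cls : ∀ u ∈ X, u * x = x * u → u * u = 1 → u ≠ 1 → ∃ d ∈ L, d * x = x * d ∧
    (d * u * d⁻¹ = a ∨ d * u * d⁻¹ = s ∨ d * u * d⁻¹ = a * s)
  commS : ∀ s' ∈ L, s' * x = x * s' → s' * s' = 1 → s' * s = s * s' → s' = 1 ∨ s' = s
  nas : ∀ g : G, g * a * g⁻¹ ≠ s
  naas : ∀ g : G, g * a * g⁻¹ ≠ a * s
  xs : ∃ p ∈ L, p * s = s * p ∧ p * x * p⁻¹ = x * s

/-- the conjugates of `a` under `C(t₀)`, `t₀ ∈ {s, as}`, outer on `L`, are of the type of `x` -/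
structure Hyp (X L : Subgroup G) (x a s : G) : Prop extends Hyp0 X L x a s where
  out : ∀ t₀, t₀ = s ∨ t₀ = a * s → ∀ m, m * t₀ = t₀ * m →
    (∀ l ∈ L, m * a * m⁻¹ * l ∉ centralizer (L : Set G)) →
    ∃ l ∈ L, l * s = s * l ∧ l * (m * a * m⁻¹) * l⁻¹ * x ∈ centralizer (L : Set G)

/-- conjugation of products -/
theorem cj_mul (g y z : G) : g * (y * z) * g⁻¹ = (g * y * g⁻¹) * (g * z * g⁻¹) := by group

theorem cj_comm {g y z : G} (h : y * z = z * y) :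
    (g * y * g⁻¹) * (g * z * g⁻¹) = (g * z * g⁻¹) * (g * y * g⁻¹) := by
  rw [← cj_mul, h, cj_mul]

theorem cj_sq {g y : G} (h : y * y = 1) : (g * y * g⁻¹) * (g * y * g⁻¹) = 1 := by
  rw [← cj_mul, h]; group

theorem cj_ne {g y : G} (h : y ≠ 1) : g * y * g⁻¹ ≠ 1 := by
  intro h1
  apply h
  calc y = g⁻¹ * (g * y * g⁻¹) * g := by group
    _ = 1 := by rw [h1]; group

theorem cj_eq_of_comm {g y : G} (h : g * y = y * g) : g * y * g⁻¹ = y := by rw [h]; group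

theorem comm_of_cj_eq {g y : G} (h : g * y * g⁻¹ = y) : g * y = y * g := by
  calc g * y = (g * y * g⁻¹) * g := by group
    _ = y * g := by rw [h]

/-- `c` commutes with `gyg⁻¹` iff `g⁻¹cg` commutes with `y` -/
theorem comm_cj_iff {g c y : G} :
    c * (g * y * g⁻¹) = (g * y * g⁻¹) * c ↔ (g⁻¹ * c * g) * y = y * (g⁻¹ * c * g) := by
  constructor
  · intro h
    calc (g⁻¹ * c * g) * y = g⁻¹ * (c * (g * y * g⁻¹)) * g := by group
      _ = g⁻¹ * ((g * y * g⁻¹) * c) * g := by rw [h]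
      _ = _ := by group
  · intro h
    calc c * (g * y * g⁻¹) = g * ((g⁻¹ * c * g) * y) * g⁻¹ := by group
      _ = g * (y * (g⁻¹ * c * g)) * g⁻¹ := by rw [h]
      _ = _ := by group

section simple

variable {L : Subgroup G}
  (simp : ∀ N : Subgroup G, N ≤ L → (∀ l ∈ L, ∀ n ∈ N, l * n * l⁻¹ ∈ N) → N = ⊥ ∨ N = L)
include simp

theorem y1 {g : G} (hnc : ¬ ∀ l ∈ L, g * l * g⁻¹ ∈ centralizer (L : Set G))
    (h : ∀ l ∈ L, g * l * g⁻¹ ∈ normalizer (L : Set G)) {l : G} (hl : l ∈ L)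
    (hk : g * l * g⁻¹ ∈ centralizer (L : Set G)) : l = 1 := by
  rcases simp (L ⊓ (centralizer (L : Set G)).comap (MulAut.conj g).toMonoidHom) inf_le_left
    (fun l hl n hn => mem_inf.mpr ⟨mul_mem (mul_mem hl hn.1) (inv_mem hl), mem_comap.mpr (by
      have h1 : (MulAut.conj g).toMonoidHom (l * n * l⁻¹) =
          (g * l * g⁻¹) * (g * n * g⁻¹) * (g * l * g⁻¹)⁻¹ := by
        simp only [MulEquiv.coe_toMonoidHom, MulAut.conj_apply]; group
      rw [h1]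
      exact K_conj (h l hl) hn.2)⟩) with h1 | h1
  · exact mem_bot.mp (h1 ▸ (⟨hl, hk⟩ :
      l ∈ L ⊓ (centralizer (L : Set G)).comap (MulAut.conj g).toMonoidHom))
  · exfalso
    apply hnc
    intro l hl
    have : l ∈ L ⊓ (centralizer (L : Set G)).comap (MulAut.conj g).toMonoidHom := h1.symm ▸ hl
    exact this.2

theorem y2 [Finite G] {g : G} (hg : g ∉ normalizer (L : Set G))
    (h : ∀ l ∈ L, g * l * g⁻¹ ∈ normalizer (L : Set G)) {l : G} (hl : l ∈ L)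
    (hk : g * l * g⁻¹ ∈ L) : l = 1 := by
  rcases simp (L ⊓ L.comap (MulAut.conj g).toMonoidHom) inf_le_left
    (fun l hl n hn => mem_inf.mpr ⟨mul_mem (mul_mem hl hn.1) (inv_mem hl), mem_comap.mpr (by
      have h1 : (MulAut.conj g).toMonoidHom (l * n * l⁻¹) =
          (g * l * g⁻¹) * (g * n * g⁻¹) * (g * l * g⁻¹)⁻¹ := by
        simp only [MulEquiv.coe_toMonoidHom, MulAut.conj_apply]; group
      rw [h1]
      exact L_conj (h l hl) hn.2)⟩) with h1 | h1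
  · exact mem_bot.mp (h1 ▸ (⟨hl, hk⟩ : l ∈ L ⊓ L.comap (MulAut.conj g).toMonoidHom))
  · exfalso
    apply hg
    have h2 : ∀ l ∈ L, g * l * g⁻¹ ∈ L := by
      intro l hl
      have : l ∈ L ⊓ L.comap (MulAut.conj g).toMonoidHom := h1.symm ▸ hl
      exact this.2
    rw [mem_normalizer_iff]
    intro y
    refine ⟨h2 y, fun hy => ?_⟩
    have h3 : Function.Surjective (fun l : L => (⟨g * l * g⁻¹, h2 l l.2⟩ : L)) := by
      apply Finite.injective_iff_surjective.mp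
      intro a b hab
      have h4 : g * (a : G) * g⁻¹ = g * (b : G) * g⁻¹ := congrArg Subtype.val hab
      exact Subtype.ext (mul_left_cancel (mul_right_cancel h4))
    obtain ⟨⟨b, hb⟩, hb2⟩ := h3 ⟨g * y * g⁻¹, hy⟩
    have h5 : g * b * g⁻¹ = g * y * g⁻¹ := congrArg Subtype.val hb2
    rw [← mul_left_cancel (mul_right_cancel h5)]
    exact hb

theorem disj_of (nab : ¬ ∀ l ∈ L, l ∈ centralizer (L : Set G)) {l : G} (hl : l ∈ L)
    (hk : l ∈ centralizer (L : Set G)) : l = 1 := by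
  have := y1 simp (g := 1) (l := l) (by simpa using nab) (fun l hl => by
    have := L_le_M hl
    simpa using this) hl (by simpa using hk)
  exact this

/-- `w ∈ N(L)` centralizing `L₁ = gLg⁻¹ ≤ LK` centralizes `L` -/
theorem y4 [Finite G] (nab : ¬ ∀ l ∈ L, l ∈ centralizer (L : Set G)) {g : G}
    (hnc : ¬ ∀ l ∈ L, g * l * g⁻¹ ∈ centralizer (L : Set G))
    (h : ∀ l ∈ L, g * l * g⁻¹ ∈ normalizer (L : Set G))
    (hp : ∀ l ∈ L, ∃ l' ∈ L, g * l * g⁻¹ * l' ∈ centralizer (L : Set G)) {w : G}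
    (hw : w ∈ normalizer (L : Set G)) (hwg : g⁻¹ * w * g ∈ centralizer (L : Set G)) :
    w ∈ centralizer (L : Set G) := by
  choose f hf using fun l : L => hp l.1 l.2
  have hinj : Function.Injective (fun l : L => (⟨f l, (hf l).1⟩ : L)) := by
    intro a b hab
    have h1 : f a = f b := congrArg Subtype.val hab
    have h2 := mul_mem (hf a).2 (inv_mem (hf b).2)
    rw [h1] at h2
    have h3 : g * (a : G) * g⁻¹ * f b * (g * (b : G) * g⁻¹ * f b)⁻¹ =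
        g * ((a : G) * (b : G)⁻¹) * g⁻¹ := by group
    rw [h3] at h2
    have h4 := y1 simp hnc h (mul_mem a.2 (inv_mem b.2)) h2
    exact Subtype.ext (mul_inv_eq_one.mp h4)
  have hsurj := Finite.injective_iff_surjective.mp hinj
  rw [mem_centralizer_iff]
  intro y hy
  obtain ⟨⟨l, hl⟩, hly⟩ := hsurj ⟨y, hy⟩
  have h1 : f ⟨l, hl⟩ = y := congrArg Subtype.val hly
  have hk := (hf ⟨l, hl⟩).2
  rw [h1] at hk
  obtain ⟨k, hkdef⟩ : ∃ k, k = g * l * g⁻¹ * y := ⟨_, rfl⟩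
  rw [← hkdef] at hk
  have e1 : g * l * g⁻¹ = k * y⁻¹ := by rw [hkdef]; group
  have h2 : w * (g * l * g⁻¹) * w⁻¹ = g * l * g⁻¹ := by
    have h3 := comm_of_mem hl hwg
    calc w * (g * l * g⁻¹) * w⁻¹ = g * ((g⁻¹ * w * g) * l) * g⁻¹ * w⁻¹ := by group
      _ = g * (l * (g⁻¹ * w * g)) * g⁻¹ * w⁻¹ := by rw [h3]
      _ = g * l * g⁻¹ := by group
  rw [e1] at h2
  have h3 : k⁻¹ * (w * k * w⁻¹) = y⁻¹ * (w * y * w⁻¹) := by
    have h4 : (w * k * w⁻¹) * (w * y * w⁻¹)⁻¹ = k * y⁻¹ := by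
      calc (w * k * w⁻¹) * (w * y * w⁻¹)⁻¹ = w * (k * y⁻¹) * w⁻¹ := by group
        _ = k * y⁻¹ := h2
    calc k⁻¹ * (w * k * w⁻¹) = k⁻¹ * ((w * k * w⁻¹) * (w * y * w⁻¹)⁻¹) * (w * y * w⁻¹) := by group
      _ = k⁻¹ * (k * y⁻¹) * (w * y * w⁻¹) := by rw [h4]
      _ = _ := by group
  have h5 := disj_of simp nab (mul_mem (inv_mem hy) (L_conj hw hy))
    (h3 ▸ mul_mem (inv_mem hk) (K_conj hw hk))
  have h6 : w * y * w⁻¹ = y := (inv_mul_eq_one.mp h5).symm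
  calc y * w = w * y * w⁻¹ * w := by rw [h6]
    _ = w * y := by group

/-- a conjugate of `L` normalizing a set of at most three elements centralizes it -/
theorem centr [Finite G] (big : 27 < Nat.card L) (A : Finset G) (hA : A.card ≤ 3) {g : G}
    (h : ∀ l ∈ L, ∀ b ∈ A, (g * l * g⁻¹) * b * (g * l * g⁻¹)⁻¹ ∈ A) {l b : G} (hl : l ∈ L)
    (hb : b ∈ A) : (g * l * g⁻¹) * b = b * (g * l * g⁻¹) := by
  classical
  let N : Subgroup G :=
    { carrier := {n | n ∈ L ∧ ∀ b ∈ A, (g * n * g⁻¹) * b = b * (g * n * g⁻¹)}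
      mul_mem' := by
        rintro y z ⟨hy, hy'⟩ ⟨hz, hz'⟩
        refine ⟨mul_mem hy hz, fun b hb => ?_⟩
        rw [cj_mul, mul_assoc, hz' b hb, ← mul_assoc, hy' b hb, mul_assoc]
      one_mem' := ⟨one_mem _, fun b _ => by simp⟩
      inv_mem' := by
        rintro y ⟨hy, hy'⟩
        refine ⟨inv_mem hy, fun b hb => ?_⟩
        have h1 := hy' b hb
        have e : g * y⁻¹ * g⁻¹ = (g * y * g⁻¹)⁻¹ := by group
        rw [e]
        calc (g * y * g⁻¹)⁻¹ * b = (g * y * g⁻¹)⁻¹ * (b * (g * y * g⁻¹)) * (g * y * g⁻¹)⁻¹ := by group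
          _ = (g * y * g⁻¹)⁻¹ * ((g * y * g⁻¹) * b) * (g * y * g⁻¹)⁻¹ := by rw [h1]
          _ = b * (g * y * g⁻¹)⁻¹ := by group }
  have hmem : ∀ n, n ∈ N ↔ n ∈ L ∧ ∀ b ∈ A, (g * n * g⁻¹) * b = b * (g * n * g⁻¹) := fun n => Iff.rfl
  rcases simp N (fun n hn => ((hmem n).mp hn).1) (by
    intro l hl n hn
    obtain ⟨hn1, hn2⟩ := (hmem n).mp hn
    refine (hmem _).mpr ⟨mul_mem (mul_mem hl hn1) (inv_mem hl), fun b hb => ?_⟩
    have h1 := h l⁻¹ (inv_mem hl) b hb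
    have h2 := hn2 _ h1
    obtain ⟨c, hc⟩ : ∃ c, c = g * l * g⁻¹ := ⟨_, rfl⟩
    obtain ⟨m, hm⟩ : ∃ m, m = g * n * g⁻¹ := ⟨_, rfl⟩
    have e1 : g * l⁻¹ * g⁻¹ = c⁻¹ := by rw [hc]; group
    have e2 : g * (l * n * l⁻¹) * g⁻¹ = c * m * c⁻¹ := by rw [hc, hm]; group
    rw [e1, ← hm, inv_inv] at h2
    rw [e2]
    calc c * m * c⁻¹ * b = c * (m * (c⁻¹ * b * c)) * c⁻¹ := by group
      _ = c * (c⁻¹ * b * c * m) * c⁻¹ := by rw [h2]
      _ = b * (c * m * c⁻¹) := by group) with h1 | h1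
  · exfalso
    have hinj : Function.Injective (fun l : L => (fun b : A =>
        (⟨(g * l * g⁻¹) * b * (g * l * g⁻¹)⁻¹, h l l.2 b b.2⟩ : A))) := by
      intro y z hyz
      have h2 : ((z : G)⁻¹ * (y : G)) ∈ N := by
        refine (hmem _).mpr ⟨mul_mem (inv_mem z.2) y.2, fun b hb => ?_⟩
        have h3 := congrArg Subtype.val (congrFun hyz ⟨b, hb⟩)
        have h4 : (g * (y : G) * g⁻¹) * b * (g * (y : G) * g⁻¹)⁻¹ =
          (g * (z : G) * g⁻¹) * b * (g * (z : G) * g⁻¹)⁻¹ := h3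
        obtain ⟨c, hc⟩ : ∃ c, c = g * (y : G) * g⁻¹ := ⟨_, rfl⟩
        obtain ⟨d, hd⟩ : ∃ d, d = g * (z : G) * g⁻¹ := ⟨_, rfl⟩
        rw [← hc, ← hd] at h4
        have e2 : g * ((z : G)⁻¹ * (y : G)) * g⁻¹ = d⁻¹ * c := by rw [hc, hd]; group
        rw [e2]
        calc d⁻¹ * c * b = d⁻¹ * (c * b * c⁻¹) * c := by group
          _ = d⁻¹ * (d * b * d⁻¹) * c := by rw [h4]
          _ = b * (d⁻¹ * c) := by group
      rw [h1, mem_bot] at h2
      exact Subtype.ext (inv_mul_eq_one.mp h2).symm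
    have hc := Nat.card_le_card_of_injective _ hinj
    have hc2 : Nat.card (A → A) ≤ 27 := by
      rw [Nat.card_eq_fintype_card, Fintype.card_fun, Fintype.card_coe]
      calc A.card ^ A.card ≤ 3 ^ A.card := Nat.pow_le_pow_left hA _
        _ ≤ 3 ^ 3 := Nat.pow_le_pow_right (by norm_num) hA
        _ = 27 := by norm_num
    omega
  · have : l ∈ N := h1.symm ▸ hl
    exact ((hmem l).mp this).2 b hb

end simple

end Cfsg.Agent.UGT.FourA.Basic
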