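import Cfsg.Agent.UGT.FourA.Top
import Cfsg.Agent.UGT.Res.Base
import Cfsg.Agent.LieRecognition.ReeGeneric
import Cfsg.Agent.S0215

/-!
# Theorem 4A, steps (3), (4): `O(C(x)) ≤ C(a)` and `C(x) ≤ C(a)`
-/

set_option autoImplicit false

open Cfsg Subgroup
open Cfsg.Agent.SignalizersComponents Cfsg.Agent.Lib
open Cfsg.Agent.SignalizersComponents.IntrinsicBasic
open Cfsg.Agent.Intrinsic.Basic Cfsg.Agent.Intrinsic.Cen Cfsg.Agent.Intrinsic.Diag
open Cfsg.Agent.UGT.Triple Cfsg.Agent.UGT.Iface Cfsg.Agent.UGT.Res.KFacts Cfsg.Agent.UGT.Res.Base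
open Cfsg.Agent.UGT.Res.EFacts Cfsg.Agent.UGT.FourA.Hon Cfsg.Agent.UGT.FourA.Top
open Cfsg.Agent.GH.L2Aut Cfsg.Agent.UGT.RankOneR
open scoped commutatorElement

namespace Cfsg.Agent.UGT.FourA.Core

universe u

variable {G : Type u} [Group G]

theorem mem_of_sq_mem {S : Subgroup G} {e : G} (ho : Odd (orderOf e)) (h : e * e ∈ S) : e ∈ S := by
  obtain ⟨k, hk⟩ := ho
  have h1 : e = (e * e) ^ (k + 1) := by
    have h2 : (e * e) ^ (k + 1) = e ^ orderOf e * e := by
      rw [hk, ← pow_two, ← pow_mul, ← pow_succ]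
      congr 1
    rw [h2, pow_orderOf_eq_one, one_mul]
  rw [h1]
  exact S.pow_mem h _

variable [Finite G]

theorem odd_of_core {H : Subgroup G} {e : G} (h : e ∈ core H) : Odd (orderOf e) := by
  have h4 := orderOf_dvd_natCard (⟨e, h⟩ : ↥(core H))
  rw [Subgroup.orderOf_mk] at h4
  exact Odd.of_dvd_nat (odd_card_core _) h4

/-- step (3), the main point -/
theorem eq_one_of_inv {X : Subgroup G} {x : G} (I : Idx X x) (hx1 : x ≠ 1) (H : Pgl G) (hN : NoFld G)
    (hE : ∀ {t u v : G} (htx : Four t x) (huv : Four u v), u * x = x * u → v * x = x * v →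
      u * t = t * u → v * t = t * v → htx.sub ⊓ huv.sub = ⊥ → False)
    {t r e a : G} (htX : t ∈ X) (ht : orderOf t = 2) (htx : t * x = x * t)
    (hc : core (centralizer ({t} : Set G)) = ⊥) (hrt : r * t = t * r) (hrx : r * x = x * r)
    (hra : r * r = a) (haa : a * a = 1) (he : e ∈ core (centralizer ({x} : Set G)))
    (het : e * t = t * e) (hea : a * e * a⁻¹ = e⁻¹) : e = 1 := by
  by_contra hne
  have hxo : orderOf x = 2 := orderOf_eq_prime (by rw [pow_two]; exact I.xx) hx1
  obtain ⟨J, TJ, hf⟩ := exists_triple hxo ht htx he (mem_c het) (by rw [hc, mem_bot]; exact hne)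
  have hcJ : core J = ⊥ := by
    rw [eq_bot_iff, ← hc]
    exact TJ.comp.core_le_core
  obtain ⟨F, _, _, R, HJ⟩ := exists_hon H hN TJ hcJ
  have hJX : J ≤ X := I.perfect_le TJ.comp.perfect
  have hJt : ∀ j ∈ J, j * t = t * j := fun j hj => comm_c (TJ.comp.le hj)
  have hr4 : r ^ 2 ^ 2 = 1 := by
    have h1 : r ^ 2 ^ 2 = (r * r) * (r * r) := by
      rw [← pow_two, ← pow_two, ← pow_mul]
      norm_num
    rw [h1, hra, haa]
  by_cases hrJ : r ∈ normalizer (J : Set G)
  · -- `r` normalizes `J`
    have hr4' : (OddHalf.D6.act J r hrJ) ^ 2 ^ 2 = 1 := by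
      have h3 : OddHalf.D6.act J r hrJ ^ 2 ^ 2 = J.normalizerMonoidHom (⟨r, hrJ⟩ ^ 2 ^ 2) :=
        (map_pow J.normalizerMonoidHom _ _).symm
      have h4 : (⟨r, hrJ⟩ : normalizer (J : Set G)) ^ 2 ^ 2 = 1 := Subtype.ext hr4
      rw [h3, h4, map_one]
    have h1 := sq_of_two R HJ.cf.sq (HJ.cf.o1 _) ⟨2, hr4'⟩ (HJ.nf r hrJ hrt ⟨2, hr4⟩)
      (act_comm' hrJ HJ.cf.xN hrx)
    have haJ : a ∈ centralizer (J : Set G) := by
      rw [OddHalf.D6.act_mul] at h1
      have h2 := (act_one_iff' (mul_mem hrJ hrJ)).mp h1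
      rwa [hra] at h2
    have heN : e ∈ normalizer (J : Set G) := TJ.mem_normalizer_of_core he (mem_c het)
    have hee : e * e ∈ centralizer (J : Set G) := by
      rw [mem_centralizer_iff]
      intro j hj
      have h2 : e * j * e⁻¹ ∈ J := (mem_normalizer_iff.mp heN j).mp hj
      have h3 := mem_centralizer_iff.mp haJ _ h2
      have h4 := mem_centralizer_iff.mp haJ _ hj
      have h5 : e⁻¹ * j * e = e * j * e⁻¹ := by
        have hei : e = a * e⁻¹ * a⁻¹ := by
          have : a * e⁻¹ * a⁻¹ = (a * e * a⁻¹)⁻¹ := by group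
          rw [this, hea, inv_inv]
        calc e⁻¹ * j * e = (a * e * a⁻¹) * j * (a * e⁻¹ * a⁻¹) := by rw [hea, ← hei]
          _ = a * (e * (a⁻¹ * (j * a)) * e⁻¹) * a⁻¹ := by group
          _ = a * (e * j * e⁻¹) * a⁻¹ := by rw [h4]; group
          _ = e * j * e⁻¹ := by rw [← h3]; group
      calc j * (e * e) = e * (e⁻¹ * j * e) * e := by group
        _ = e * (e * j * e⁻¹) * e := by rw [h5]
        _ = e * e * j := by group
    exact hf ((fixes_iff hcJ).mpr (mem_of_sq_mem (odd_of_core he) hee))
  · -- `r` moves `J`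
    obtain ⟨⟨v, hv⟩, hvx, hvv, hv1⟩ := OddHalf.D6.PglType.exists_fix_involution R HJ.cf.sq
      (HJ.cf.o1 HJ.cf.xN)
    have hvx' : v * x = x * v := (act_fix HJ.cf.xN hv).mp hvx
    have hvv' : v * v = 1 := congrArg Subtype.val hvv
    have hv1' : v ≠ 1 := fun h => hv1 (Subtype.ext h)
    have hvC : v ∉ centralizer (J : Set G) := fun h => hv1' (eq_one_of_mem_centralizer R hv h)
    obtain ⟨w, hw⟩ : ∃ w, w = r * v * r⁻¹ := ⟨_, rfl⟩
    have hrtc : r ∈ centralizer ({t} : Set G) := mem_c hrt
    have hne' : IntrinsicBasic.cj r J ≠ J := fun h => hrJ (mem_normalizer_iff_cj.mpr h)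
    have hwC : w ∈ centralizer (J : Set G) := by
      have h1 : IsComp (centralizer ({t} : Set G)) (IntrinsicBasic.cj r J) :=
        isComp_cj_of_mem TJ.comp hrtc
      have h2 : w ∈ IntrinsicBasic.cj r J := hw ▸ conj_mem_cj hv
      exact (fixes_iff hcJ).mp (TJ.comp.fixes_of_mem h1 (fun h => hne' h.symm) h2)
    have crx : Commute r x := hrx
    have crt : Commute r t := hrt
    have cvx : Commute v x := hvx'
    have cvt : Commute v t := hJt v hv
    have cwx : Commute w x := hw ▸ (crx.mul_left cvx).mul_left crx.inv_left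
    have cwt : Commute w t := hw ▸ (crt.mul_left cvt).mul_left crt.inv_left
    have hww : w * w = 1 := by
      rw [hw]
      calc r * v * r⁻¹ * (r * v * r⁻¹) = r * (v * v) * r⁻¹ := by group
        _ = 1 := by rw [hvv']; group
    have hw1 : w ≠ 1 := by
      rintro rfl
      apply hv1'
      calc v = r⁻¹ * (r * v * r⁻¹) * r := by group
        _ = 1 := by rw [← hw]; group
    have hvw : v * w = w * v := mem_centralizer_iff.mp hwC v hv
    have hvX : v ∈ X := hJX hv
    have hwX : w ∈ X := hw ▸ I.XN.conj_mem v hvX r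
    have htt : t * t = 1 := sq_of_order ht
    have ht1 : t ≠ 1 := ne_one_of_order ht
    have h4tx : Four t x := ⟨htt, I.xx, ht1, hx1, fun h => I.xX (h ▸ htX), htx⟩
    have h4vw : Four v w := ⟨hvv', hww, hv1', hw1, fun h => hvC (h ▸ hwC), hvw⟩
    have htC : t ∈ centralizer (J : Set G) := mem_centralizer_iff.mpr hJt
    refine hE h4tx h4vw hvx' cwx.eq cvt.eq cwt.eq ?_
    rw [eq_bot_iff]
    rintro z ⟨hz1, hz2⟩
    have hzX : z ∈ X := by
      rcases hz2 with rfl | rfl | rfl | rfl
      · exact X.one_mem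
      · exact hvX
      · exact hwX
      · exact X.mul_mem hvX hwX
    have hzt : z = 1 ∨ z = t := by
      rcases hz1 with h | h | h | h
      · exact Or.inl h
      · exact Or.inr h
      · exact absurd (h ▸ hzX) I.xX
      · exfalso
        apply I.xX
        have h5 : x = t * z := by rw [h, ← mul_assoc, htt, one_mul]
        rw [h5]
        exact X.mul_mem htX hzX
    rcases hzt with h | h
    · exact mem_bot.mpr h
    · exfalso
      rcases hz2 with h2 | h2 | h2 | h2
      · exact ht1 (h.symm.trans h2)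
      · exact hvC (by rw [← h2, h]; exact htC)
      · -- `t = w`
        apply hvC
        have h5 : r * v * r⁻¹ = t := by rw [← hw, ← h2, h]
        have h6 : v = t := by
          calc v = r⁻¹ * (r * v * r⁻¹) * r := by group
            _ = r⁻¹ * (t * r) := by rw [h5]; group
            _ = t := by rw [← hrt]; group
        rw [h6]
        exact htC
      · apply hvC
        have h5 : v = t * w⁻¹ := by rw [← h, h2]; group
        rw [h5]
        exact mul_mem htC (inv_mem hwC)

/-- **(3)** `O(C(x)) ≤ C(a)` -/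
theorem core_le_a {X : Subgroup G} {x : G} (I : Idx X x) (hx1 : x ≠ 1) (H : Pgl G) (hN : NoFld G)
    (hE : ∀ {t u v : G} (htx : Four t x) (huv : Four u v), u * x = x * u → v * x = x * v →
      u * t = t * u → v * t = t * v → htx.sub ⊓ huv.sub = ⊥ → False)
    (hcf : ∀ t ∈ X, orderOf t = 2 → core (centralizer ({t} : Set G)) = ⊥)
    {a s r : G} (has : Four a s) (hsX : s ∈ X) (hax : a * x = x * a)
    (hsx : s * x = x * s) (hrx : r * x = x * r) (hrs : r * s = s * r) (hra : r * r = a) :
    ∀ e ∈ core (centralizer ({x} : Set G)), e * a = a * e := by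
  have haX : a ∈ X := hra ▸ I.sq_mem r
  have hai : a⁻¹ = a := inv_eq_of_mul_eq_one_left has.aa
  have hras : r * (a * s) = a * s * r := by
    rw [← hra]
    calc r * (r * r * s) = r * r * (r * s) := by group
      _ = r * r * s * r := by rw [hrs]; group
  have key : ∀ t ∈ X, orderOf t = 2 → t * x = x * t → r * t = t * r → t * a = a * t →
      ∀ e ∈ core (centralizer ({x} : Set G)), e * t = t * e → e * a = a * e := by
    intro t htX ht htx hrt hta e he het
    have h1 : e⁻¹ * (a * e * a⁻¹) ∈ core (centralizer ({x} : Set G)) :=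
      mul_mem (inv_mem he) (conj_core (mem_c hax) he)
    have cet : Commute e t := het
    have cat : Commute a t := hta.symm
    have h2 := eq_one_of_inv I hx1 H hN hE htX ht htx (hcf t htX ht) hrt hrx hra has.aa h1
      (cet.inv_left.mul_left ((cat.mul_left cet).mul_left cat.inv_left)).eq (by
        rw [hai]
        calc a * (e⁻¹ * (a * e * a)) * a = a * e⁻¹ * (a * e) * (a * a) := by group
          _ = a * e⁻¹ * a * e := by rw [has.aa]; group
          _ = (e⁻¹ * (a⁻¹ * e * a⁻¹))⁻¹ := by group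
          _ = (e⁻¹ * (a * e * a))⁻¹ := by rw [hai])
    have h3 : a * e * a⁻¹ = e := (inv_mul_eq_one.mp h2).symm
    calc e * a = a * e * a⁻¹ * a := by rw [h3]
      _ = a * e := by group
  have hso : orderOf s = 2 := orderOf_eq_prime (by rw [pow_two]; exact has.bb) has.b1
  have hasq : a * s * (a * s) = 1 := by
    calc a * s * (a * s) = a * (s * a) * s := by group
      _ = a * a * (s * s) := by rw [← has.comm]; group
      _ = 1 := by rw [has.aa, has.bb, one_mul]
  have haso : orderOf (a * s) = 2 := orderOf_eq_prime (by rw [pow_two]; exact hasq) has.right.b1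
  have hconj : ∀ {b : G}, b * b = 1 → b * x = x * b → ∀ e ∈ core (centralizer ({x} : Set G)),
      b * e * b ∈ core (centralizer ({x} : Set G)) := by
    intro b hb hbx e he
    have h1 := conj_core (H := centralizer ({x} : Set G)) (mem_c hbx) he
    rwa [inv_eq_of_mul_eq_one_left hb] at h1
  have cas : Commute a s := has.comm
  have cax : Commute a x := hax
  have hmem := LieRecognition.ReeGeneric.le_of_four (M := core (centralizer ({x} : Set G)))
    (A := centralizer ({a} : Set G)) (fun e he => odd_of_core he) (e₁ := a) (e₂ := s) has.aa has.bb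
    has.comm (hconj has.aa hax) (hconj has.bb hsx) (fun e he => by
      rw [← comm_c he, mul_assoc, has.aa, mul_one]) (fun e _ h => mem_c (by
      calc e * a = (a * e * a) * a := by rw [h]
        _ = a * e * (a * a) := by group
        _ = a * e := by rw [has.aa, mul_one])) (fun e he h => mem_c (key s hsX hso hsx hrs
      has.comm.symm e he (by
      calc e * s = (s * e * s) * s := by rw [h]
        _ = s * e * (s * s) := by group
        _ = s * e := by rw [has.bb, mul_one]))) (fun e he h => mem_c (key (a * s)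
      (X.mul_mem haX hsX) haso (cax.mul_left hsx).eq hras ((Commute.refl a).mul_left cas.symm).eq e he
      (by
      calc e * (a * s) = (a * s * e * (a * s)) * (a * s) := by rw [h]
        _ = a * s * e * (a * s * (a * s)) := by group
        _ = a * s * e := by rw [hasq, mul_one])))
  exact fun e he => comm_c (hmem he)

end Cfsg.Agent.UGT.FourA.Core
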