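import Cfsg.Agent.UGT.FourA.Basic

/-!
# Theorem 4A, II: the conjugates of `a` under `C(s)`, `C(as)`

`Hyp.ten`: `m ∈ C(t₀)`, `t₀ ∈ {s, as}`: `a ^ m = a` or `a ^ m ∈ {v, vs}`, `v ∈ K`, `v ^ x = va`.
`Hyp.tri`: `a ^ {C(t₀)}` is `{a}`, `{a, v, va}` (only for `t₀ = s`) or `{a, vs, vas}`.
-/

set_option autoImplicit false

open Subgroup

namespace Cfsg.Agent.UGT.FourA.Basic

open Cfsg.Agent.UGT.ThE Cfsg.Agent.UGT.ThE.Base

variable {G : Type*} [Group G]

/-- product rules for commuting involutions -/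
theorem sq_mul {y z : G} (hy : y * y = 1) (hz : z * z = 1) (h : y * z = z * y) :
    y * z * (y * z) = 1 := by
  calc y * z * (y * z) = y * (z * y) * z := by group
    _ = (y * y) * (z * z) := by rw [← h]; group
    _ = 1 := by rw [hy, hz, one_mul]

theorem comm_mul {c y z : G} (hy : c * y = y * c) (hz : c * z = z * c) :
    c * (y * z) = y * z * c := by
  calc c * (y * z) = (c * y) * z := by group
    _ = y * (c * z) := by rw [hy]; group
    _ = y * z * c := by rw [hz]; group

theorem mul_comm' {c y z : G} (hy : y * c = c * y) (hz : z * c = c * z) :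
    y * z * c = c * (y * z) := (comm_mul hy.symm hz.symm).symm

theorem comm_inv {c y : G} (h : c * y = y * c) : c * y⁻¹ = y⁻¹ * c := by
  calc c * y⁻¹ = y⁻¹ * (y * c) * y⁻¹ := by group
    _ = y⁻¹ * (c * y) * y⁻¹ := by rw [h]
    _ = y⁻¹ * c := by group

theorem inv_comm {c y : G} (h : c * y = y * c) : c⁻¹ * y = y * c⁻¹ := (comm_inv h.symm).symm

namespace Hyp0

variable {X L : Subgroup G} {x a s : G} (H : Hyp0 X L x a s)
include H

theorem xi : x⁻¹ = x := inv_eq_of_mul_eq_one_left H.xx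
theorem ai : a⁻¹ = a := inv_eq_of_mul_eq_one_left H.aa
theorem si : s⁻¹ = s := inv_eq_of_mul_eq_one_left H.ss

theorem disj {l : G} (hl : l ∈ L) (hk : l ∈ centralizer (L : Set G)) : l = 1 :=
  disj_of H.simp H.nab hl hk

theorem xa : x * a = a * x := H.Cx x rfl

theorem xM : x ∈ normalizer (L : Set G) := H.CaN x H.xa

theorem aK : a ∈ centralizer (L : Set G) := mem_centralizer_iff.mpr fun l hl => H.La l hl

theorem sa : s * a = a * s := H.La s H.sL

theorem as2 : a * s * (a * s) = 1 := sq_mul H.aa H.ss H.sa.symm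

theorem as1 : a * s ≠ 1 := by
  intro h
  apply H.s1
  apply H.disj H.sL
  have : s = a⁻¹ * (a * s) := by group
  rw [this, h, mul_one]
  exact inv_mem H.aK

/-- commuting elements of `LK` -/
theorem split {l k l' k' : G} (hl : l ∈ L) (hk : k ∈ centralizer (L : Set G)) (hl' : l' ∈ L)
    (hk' : k' ∈ centralizer (L : Set G)) (h : l * k = l' * k') : l = l' ∧ k = k' := by
  have h1 : l'⁻¹ * l = k' * k⁻¹ := by
    calc l'⁻¹ * l = l'⁻¹ * (l * k) * k⁻¹ := by group
      _ = k' * k⁻¹ := by rw [h]; group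
  have h2 := H.disj (mul_mem (inv_mem hl') hl) (h1 ▸ mul_mem hk' (inv_mem hk))
  have h3 : l = l' := (inv_mul_eq_one.mp h2).symm
  refine ⟨h3, ?_⟩
  rw [h3] at h
  exact mul_left_cancel h

theorem fixd {g : G} (h : g * a * g⁻¹ * x = x * (g * a * g⁻¹)) : g * a * g⁻¹ = a := by
  obtain ⟨d, hd, hdx, h1 | h1 | h1⟩ := H.cls _ (H.XN.conj_mem a H.aX g) h (cj_sq H.aa) (cj_ne H.a1)
  · have hda := cj_eq_of_comm (comm_inv (H.La d hd).symm).symm
    rw [inv_inv] at hda
    calc g * a * g⁻¹ = d⁻¹ * (d * (g * a * g⁻¹) * d⁻¹) * d := by group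
      _ = a := by rw [h1, hda]
  · exfalso
    apply H.nas (d * g)
    rw [← h1]; group
  · exfalso
    apply H.naas (d * g)
    rw [← h1]; group

/-- **the dihedral link** -/
theorem linka [Finite G] (g : G) : g * a * g⁻¹ = a ∨ ∃ u ∈ X, u * u = 1 ∧ u ≠ 1 ∧ u * x = x * u ∧
    u * (g * a * g⁻¹) = g * a * g⁻¹ * u ∧
    (∀ c, c * x = x * c → c * (g * a * g⁻¹) = g * a * g⁻¹ * c → c * u = u * c) ∧
    ∃ h, h * (g * a * g⁻¹) * h⁻¹ = g * a * g⁻¹ * u := by
  obtain ⟨u, huu, hu1, huc, hux, hub, h⟩ := Link.link H.XN H.xx H.xX (cj_sq (g := g) H.aa)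
    (H.XN.conj_mem a H.aX g)
  rcases h with ⟨huX, h⟩ | ⟨-, h, hh⟩
  · exact Or.inr ⟨u, huX, huu, hu1, hux, hub, huc, h⟩
  · left
    have h1 : h * g * a * (h * g)⁻¹ = x * u := by rw [← hh]; group
    have h2 : h * g * a * (h * g)⁻¹ = a := by
      apply H.fixd
      rw [h1]
      calc x * u * x = x * (u * x) := by group
        _ = x * (x * u) := by rw [hux]
    have h3 : u = x * a := by
      rw [← h2, h1, ← mul_assoc, H.xx, one_mul]
    obtain ⟨g', hg'⟩ := H.hxa
    rw [h3, ← hg'] at hub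
    -- `b` commutes with `xa = g' x g'⁻¹`
    have h4 : (g'⁻¹ * (g * a * g⁻¹) * g') * x = x * (g'⁻¹ * (g * a * g⁻¹) * g') :=
      comm_cj_iff.mp hub.symm
    have h5 : (g'⁻¹ * g) * a * (g'⁻¹ * g)⁻¹ = a := by
      apply H.fixd
      have e : g'⁻¹ * g * a * (g'⁻¹ * g)⁻¹ = g'⁻¹ * (g * a * g⁻¹) * g' := by group
      rw [e]; exact h4
    have h6 : g'⁻¹ * a * (g'⁻¹)⁻¹ = a := by
      apply H.fixd
      have e : g'⁻¹ * a * (g'⁻¹)⁻¹ = g'⁻¹ * a * g' := by group
      rw [e]
      apply comm_cj_iff.mp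
      rw [hg']
      exact comm_mul H.xa.symm rfl
    calc g * a * g⁻¹ = g' * ((g'⁻¹ * g) * a * (g'⁻¹ * g)⁻¹) * g'⁻¹ := by group
      _ = g' * (g'⁻¹ * a * (g'⁻¹)⁻¹) * g'⁻¹ := by rw [h5, h6]
      _ = a := by group

/-- `t₀ ∈ {s, as}` -/
def T0 (a s t₀ : G) : Prop := t₀ = s ∨ t₀ = a * s

omit H in
theorem T0.sL {X L : Subgroup G} {x a s t₀ : G} (H : Hyp0 X L x a s) (h : T0 a s t₀) {c : G}
    (hca : c * a = a * c) : c * t₀ = t₀ * c ↔ c * s = s * c := by
  rcases h with rfl | rfl
  · exact Iff.rfl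
  · constructor
    · intro h
      apply mul_left_cancel (a := a)
      calc a * (c * s) = (c * a) * s := by rw [hca]; group
        _ = c * (a * s) := by group
        _ = a * s * c := h
        _ = a * (s * c) := by group
    · intro h
      exact comm_mul hca h

omit H in
theorem T0.comm_a {X L : Subgroup G} {x a s t₀ : G} (H : Hyp0 X L x a s) (h : T0 a s t₀) :
    t₀ * a = a * t₀ := by
  rcases h with rfl | rfl
  · exact H.sa
  · exact mul_comm' rfl H.sa

omit H in
theorem T0.comm_x {X L : Subgroup G} {x a s t₀ : G} (H : Hyp0 X L x a s) (h : T0 a s t₀) :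
    t₀ * x = x * t₀ := by
  rcases h with rfl | rfl
  · exact H.sx
  · exact mul_comm' H.xa.symm H.sx

omit H in
theorem T0.comm_K {X L : Subgroup G} {x a s t₀ k : G} (H : Hyp0 X L x a s) (h : T0 a s t₀)
    (hk : k ∈ centralizer (L : Set G)) (hka : k * a = a * k) : k * t₀ = t₀ * k :=
  (T0.sL H h hka).mpr (comm_of_mem H.sL hk).symm

/-- `a t₀` is not conjugate to `a` -/
theorem nat0 {t₀ : G} (h : T0 a s t₀) (g : G) : g * a * g⁻¹ ≠ a * t₀ := by
  rcases h with rfl | rfl
  · exact H.naas g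
  · rw [← mul_assoc, H.aa, one_mul]
    exact H.nas g

/-- `b ∈ a^{C(t₀)}`: `b t₀` is not conjugate to `a` -/
theorem bt {t₀ : G} (h : T0 a s t₀) {m : G} (hm : m * t₀ = t₀ * m) (g : G) :
    g * a * g⁻¹ ≠ m * a * m⁻¹ * t₀ := by
  intro h1
  apply H.nat0 h (m⁻¹ * g)
  calc m⁻¹ * g * a * (m⁻¹ * g)⁻¹ = m⁻¹ * (g * a * g⁻¹) * m := by group
    _ = m⁻¹ * (m * a * m⁻¹) * (t₀ * m) := by rw [h1]; group
    _ = m⁻¹ * (m * a * m⁻¹) * (m * t₀) := by rw [hm]
    _ = a * t₀ := by group

/-- (9) -/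
theorem nine [Finite G] {t₀ : G} (h : T0 a s t₀) {m : G} (hm : m * t₀ = t₀ * m) :
    m * a * m⁻¹ * a = a * (m * a * m⁻¹) := by
  rcases H.linka m with h1 | ⟨u, huX, huu, hu1, hux, hub, huc, g, hg⟩
  · rw [h1]
  have hbt : t₀ * (m * a * m⁻¹) = m * a * m⁻¹ * t₀ := by
    have h2 : m * t₀ * m⁻¹ = t₀ := cj_eq_of_comm hm
    have h3 := cj_comm (g := m) (T0.comm_a H h)
    rwa [h2] at h3
  have htu : t₀ * u = u * t₀ := huc t₀ (T0.comm_x H h) hbt
  obtain ⟨d, hd, hdx, h2⟩ := H.cls u huX hux huu hu1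
  have hda := H.La d hd
  have hdia : d⁻¹ * a * d = a := by
    calc d⁻¹ * a * d = d⁻¹ * (a * d) := by group
      _ = d⁻¹ * (d * a) := by rw [hda]
      _ = a := by group
  -- the L-part of `u`
  have key : u = a ∨ u = s ∨ u = a * s := by
    obtain ⟨s', hs'⟩ : ∃ s', s' = d⁻¹ * s * d := ⟨_, rfl⟩
    have hs'L : s' ∈ L := by rw [hs']; exact mul_mem (mul_mem (inv_mem hd) H.sL) hd
    have hs'x : s' * x = x * s' := by
      rw [hs']
      have h3 : d⁻¹ * x = x * d⁻¹ := inv_comm hdx
      exact mul_comm' (mul_comm' h3 H.sx) hdx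
    have hs's : s' * s' = 1 := by
      have := cj_sq (g := d⁻¹) H.ss
      rw [inv_inv] at this
      rw [hs']; exact this
    have hs'1 : s' ≠ 1 := by
      have := cj_ne (g := d⁻¹) H.s1
      rw [inv_inv] at this
      rw [hs']; exact this
    have hs'a : s' * a = a * s' := H.La s' hs'L
    rcases h2 with h2 | h2 | h2
    · left
      calc u = d⁻¹ * (d * u * d⁻¹) * d := by group
        _ = a := by rw [h2, hdia]
    · right; left
      have e : u = s' := by
        calc u = d⁻¹ * (d * u * d⁻¹) * d := by group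
          _ = s' := by rw [h2, hs']
      rw [e] at htu
      have h3 : s' * s = s * s' := (T0.sL H h hs'a).mp htu.symm
      rcases H.commS s' hs'L hs'x hs's h3 with h4 | h4
      · exact absurd h4 hs'1
      · rw [e, h4]
    · right; right
      have e : u = a * s' := by
        calc u = d⁻¹ * (d * u * d⁻¹) * d := by group
          _ = (d⁻¹ * a * d) * (d⁻¹ * s * d) := by rw [h2]; group
          _ = a * s' := by rw [hdia, hs']
      rw [e] at htu
      have h5 : a * s' * a = a * (a * s') := mul_comm' rfl hs'a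
      have h6 : a * s' * s = s * (a * s') := (T0.sL H h h5).mp htu.symm
      have h3 : s' * s = s * s' := by
        apply mul_left_cancel (a := a)
        calc a * (s' * s) = a * s' * s := by group
          _ = s * (a * s') := h6
          _ = (s * a) * s' := by group
          _ = a * (s * s') := by rw [H.sa]; group
      rcases H.commS s' hs'L hs'x hs's h3 with h4 | h4
      · exact absurd h4 hs'1
      · rw [e, h4]
  have hcase : u = t₀ ∨ u = a ∨ u * t₀ = a := by
    rcases key with rfl | rfl | rfl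
    · exact Or.inr (Or.inl rfl)
    · rcases h with rfl | rfl
      · exact Or.inl rfl
      · right; right
        rw [← mul_assoc, H.sa, mul_assoc, H.ss, mul_one]
    · rcases h with rfl | rfl
      · right; right
        rw [mul_assoc, H.ss, mul_one]
      · exact Or.inl rfl
  rcases hcase with h3 | h3 | h3
  · exfalso
    rw [h3] at hg
    apply H.bt h hm (g * m)
    rw [← hg]; group
  · rw [h3] at hub
    exact hub.symm
  · have h4 : m * a * m⁻¹ * (u * t₀) = u * t₀ * (m * a * m⁻¹) := comm_mul hub.symm hbt.symm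
    rwa [h3] at h4

/-- elements of `a^{C(t₀)}` commute -/
theorem nine' [Finite G] {t₀ : G} (h : T0 a s t₀) {m n : G} (hm : m * t₀ = t₀ * m)
    (hn : n * t₀ = t₀ * n) :
    m * a * m⁻¹ * (n * a * n⁻¹) = n * a * n⁻¹ * (m * a * m⁻¹) := by
  have hk : n⁻¹ * m * t₀ = t₀ * (n⁻¹ * m) := mul_comm' (inv_comm hn) hm
  have h1 := cj_comm (g := n) (H.nine h hk)
  have e : n * (n⁻¹ * m * a * (n⁻¹ * m)⁻¹) * n⁻¹ = m * a * m⁻¹ := by group
  rwa [e] at h1

/-- `κ κˣ ∈ {1, a}` -/
theorem kx {k : G} (hk : k ∈ centralizer (L : Set G)) (hka : k * a = a * k) (hkk : k * k = 1)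
    (hc : k * (x * k * x⁻¹) = x * k * x⁻¹ * k) : k = 1 ∨ k = a ∨ x * k * x⁻¹ = k * a := by
  obtain ⟨c, hcd⟩ : ∃ c, c = x * k * x⁻¹ := ⟨_, rfl⟩
  have hcK : c ∈ centralizer (L : Set G) := hcd ▸ K_conj H.xM hk
  have hca : c * a = a * c := by
    have h1 := cj_comm (g := x) hka
    have h2 : x * a * x⁻¹ = a := cj_eq_of_comm H.xa
    rw [h2, ← hcd] at h1
    exact h1
  have hcc : c * c = 1 := hcd ▸ cj_sq hkk
  rw [← hcd] at hc ⊢
  have hxc : x * c * x⁻¹ = k := by
    rw [hcd, H.xi]
    calc x * (x * k * x) * x = (x * x) * k * (x * x) := by group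
      _ = k := by rw [H.xx]; group
  have h1 : k * c * x = x * (k * c) := by
    have h2 : x * (k * c) * x⁻¹ = k * c := by
      rw [cj_mul, ← hcd, hxc, hc]
    exact (comm_of_cj_eq h2).symm
  rcases H.star (k * c) (mul_mem hk hcK) (mul_comm' hka hca) h1 (sq_mul hkk hcc hc) with h2 | h2
  · -- `c = k`
    have h3 : c = k := by
      rw [eq_inv_of_mul_eq_one_right h2, inv_eq_of_mul_eq_one_left hkk]
    have h4 : k * x = x * k := by
      rw [hcd] at h3
      exact (comm_of_cj_eq h3).symm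
    rcases H.star k hk hka h4 hkk with h5 | h5
    · exact Or.inl h5
    · exact Or.inr (Or.inl h5)
  · right; right
    calc c = (k * k) * c := by rw [hkk, one_mul]
      _ = k * (k * c) := by group
      _ = k * a := by rw [h2]

end Hyp0

namespace Hyp

open Hyp0

variable {X L : Subgroup G} {x a s : G} (H : Hyp X L x a s)
include H

/-- **(10)** -/
theorem ten [Finite G] {t₀ : G} (h : T0 a s t₀) {m : G} (hm : m * t₀ = t₀ * m) :
    m * a * m⁻¹ = a ∨ ∃ v ∈ centralizer (L : Set G), v * a = a * v ∧ v * v = 1 ∧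
      x * v * x⁻¹ = v * a ∧ (m * a * m⁻¹ = v ∨ m * a * m⁻¹ = v * s) := by
  obtain ⟨b, hb⟩ : ∃ b, b = m * a * m⁻¹ := ⟨_, rfl⟩
  have hba : b * a = a * b := hb ▸ H.nine h hm
  have hbb : b * b = 1 := hb ▸ cj_sq H.aa
  have hbX : b ∈ X := hb ▸ H.XN.conj_mem a H.aX m
  have hbt : b * t₀ = t₀ * b := by
    have h2 : m * t₀ * m⁻¹ = t₀ := cj_eq_of_comm hm
    have h3 := cj_comm (g := m) (T0.comm_a H.toHyp0 h)
    rw [h2, ← hb] at h3
    exact h3.symm
  have hbs : b * s = s * b := (T0.sL H.toHyp0 h hba).mp hbt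
  -- conjugates under `C(t₀)`
  have hcj : ∀ n, n * t₀ = t₀ * n → ∀ g : G, g * a * g⁻¹ ≠ n * b * n⁻¹ * t₀ := by
    intro n hn g h1
    apply H.bt h (m := n * m) (mul_comm' hn hm) g
    rw [h1, hb]; group
  have hxt : x * t₀ = t₀ * x := (T0.comm_x H.toHyp0 h).symm
  have hcb : b * (x * b * x⁻¹) = x * b * x⁻¹ * b := by
    have h1 := H.nine' h hm (n := x * m) (mul_comm' hxt hm)
    have e : x * m * a * (x * m)⁻¹ = x * b * x⁻¹ := by rw [hb]; group
    rw [e, ← hb] at h1
    exact h1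
  rw [← hb]
  by_cases hin : ∃ l ∈ L, b * l ∈ centralizer (L : Set G)
  · -- inner
    obtain ⟨l, hl, hk⟩ := hin
    obtain ⟨k, hkd⟩ : ∃ k, k = b * l := ⟨_, rfl⟩
    rw [← hkd] at hk
    obtain ⟨i, hid⟩ : ∃ i, i = l⁻¹ := ⟨_, rfl⟩
    have hi : i ∈ L := hid ▸ inv_mem hl
    have hbik : b = i * k := by
      rw [comm_of_mem hi hk, hkd, hid]; group
    have hik : i * k = k * i := comm_of_mem hi hk
    have hii : i * i = 1 ∧ k * k = 1 := by
      have h1 : (i * i) * (k * k) = 1 * 1 := by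
        calc (i * i) * (k * k) = i * (i * k) * k := by group
          _ = i * (k * i) * k := by rw [hik]
          _ = (i * k) * (i * k) := by group
          _ = 1 * 1 := by rw [← hbik, hbb, one_mul]
      exact H.split (mul_mem hi hi) (mul_mem hk hk) (one_mem _) (one_mem _) h1
    obtain ⟨hii, hkk⟩ := hii
    have hka : k * a = a * k := by
      have h1 : k = i⁻¹ * b := by rw [hbik]; group
      rw [h1]
      exact mul_comm' (H.La _ (inv_mem hi)) hba
    have his : i * s = s * i := by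
      have h1 : i = b * k⁻¹ := by rw [hbik]; group
      rw [h1]
      exact mul_comm' hbs (inv_comm (comm_of_mem H.sL hk).symm)
    have hkxk : k * (x * k * x⁻¹) = x * k * x⁻¹ * k := by
      have hxi : x * i * x⁻¹ ∈ L := L_conj H.xM hi
      have hxk : x * k * x⁻¹ ∈ centralizer (L : Set G) := K_conj H.xM hk
      have h1 : (i * (x * i * x⁻¹)) * (k * (x * k * x⁻¹)) =
          ((x * i * x⁻¹) * i) * ((x * k * x⁻¹) * k) := by
        have c1 := comm_of_mem hxi hk
        have c2 := comm_of_mem hi hxk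
        calc (i * (x * i * x⁻¹)) * (k * (x * k * x⁻¹)) = i * ((x * i * x⁻¹) * k) * (x * k * x⁻¹) := by
              group
          _ = (i * k) * (x * (i * k) * x⁻¹) := by rw [c1]; group
          _ = (x * (i * k) * x⁻¹) * (i * k) := by rw [← hbik]; exact hcb
          _ = (x * i * x⁻¹) * ((x * k * x⁻¹) * i) * k := by group
          _ = (x * i * x⁻¹) * (i * (x * k * x⁻¹)) * k := by rw [c2]
          _ = _ := by group
      exact (H.split (mul_mem hi hxi) (mul_mem hk hxk) (mul_mem hxi hi) (mul_mem hxk hk) h1).2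
    rcases H.kx hk hka hkk hkxk with h1 | h1 | h1
    · -- `b = i`
      exfalso
      have h2 : b = i := by rw [hbik, h1, mul_one]
      have hi1 : i ≠ 1 := by
        rw [← h2, hb]; exact cj_ne H.a1
      obtain ⟨l', hl', h3⟩ := H.invL i hi hii hi1
      apply H.nas (l' * m)
      rw [← h3, ← h2, hb]; group
    · -- `b = i a`
      left
      by_contra hne
      have hi1 : i ≠ 1 := by
        intro h2
        apply hne
        rw [hbik, h2, one_mul, h1]
      obtain ⟨l', hl', h3⟩ := H.invL i hi hii hi1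
      apply H.naas (l' * m)
      have h4 : l' * a * l'⁻¹ = a := cj_eq_of_comm (H.La l' hl')
      calc l' * m * a * (l' * m)⁻¹ = l' * b * l'⁻¹ := by rw [hb]; group
        _ = (l' * i * l'⁻¹) * (l' * a * l'⁻¹) := by rw [hbik, h1, cj_mul]
        _ = a * s := by rw [h3, h4, H.sa]
    · right
      refine ⟨k, hk, hka, hkk, h1, ?_⟩
      -- `i = 1` or `i = s`
      by_cases hi1 : i = 1
      · left; rw [hbik, hi1, one_mul]
      right
      by_contra hne
      have his' : i ≠ s := by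
        intro h2
        apply hne
        rw [hbik, h2, comm_of_mem H.sL hk]
      exfalso
      -- `i s` is an involution of `L`
      have e1 : i * s ≠ 1 := by
        intro h2
        apply his'
        rw [eq_inv_of_mul_eq_one_left h2, H.si]
      have e2 : i * s * (i * s) = 1 := sq_mul hii H.ss his
      obtain ⟨l₁, hl₁, h2⟩ := H.invL (i * s) (mul_mem hi H.sL) e2 e1
      -- for every involution `j` of `L`, and `k' ∈ K`: `j k'` conjugate to `i s k'`
      have key : ∀ j ∈ L, j * j = 1 → j ≠ 1 → ∀ k' ∈ centralizer (L : Set G),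
          ∃ l' ∈ L, l' * (j * k') * l'⁻¹ = i * s * k' := by
        intro j hj hjj hj1 k' hk'
        obtain ⟨l₂, hl₂, h3⟩ := H.invL j hj hjj hj1
        refine ⟨l₁⁻¹ * l₂, mul_mem (inv_mem hl₁) hl₂, ?_⟩
        have h4 : (l₁⁻¹ * l₂) * k' * (l₁⁻¹ * l₂)⁻¹ = k' :=
          cj_eq_of_comm (comm_of_mem (mul_mem (inv_mem hl₁) hl₂) hk')
        rw [cj_mul, h4]
        congr 1
        calc l₁⁻¹ * l₂ * j * (l₁⁻¹ * l₂)⁻¹ = l₁⁻¹ * (l₂ * j * l₂⁻¹) * l₁ := by group
          _ = l₁⁻¹ * (l₁ * (i * s) * l₁⁻¹) * l₁ := by rw [h3, h2]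
          _ = i * s := by group
      rcases h with h0 | h0
      · obtain ⟨l', hl', h3⟩ := key i hi hii hi1 k hk
        apply hcj 1 (by group) (l' * m)
        calc l' * m * a * (l' * m)⁻¹ = l' * (i * k) * l'⁻¹ := by rw [← hbik, hb]; group
          _ = i * s * k := h3
          _ = 1 * b * 1⁻¹ * t₀ := by
            rw [hbik, h0]
            calc i * s * k = i * (s * k) := by group
              _ = i * (k * s) := by rw [comm_of_mem H.sL hk]
              _ = 1 * (i * k) * 1⁻¹ * s := by group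
      · have hxi : x * i * x⁻¹ ∈ L := L_conj H.xM hi
        obtain ⟨l', hl', h3⟩ := key (x * i * x⁻¹) hxi (cj_sq hii) (cj_ne hi1) (k * a)
          (mul_mem hk H.aK)
        apply hcj 1 (by group) (l' * x * m)
        calc l' * x * m * a * (l' * x * m)⁻¹ = l' * (x * (i * k) * x⁻¹) * l'⁻¹ := by
              rw [← hbik, hb]; group
          _ = l' * ((x * i * x⁻¹) * (k * a)) * l'⁻¹ := by rw [cj_mul x i k, h1]
          _ = i * s * (k * a) := h3
          _ = 1 * b * 1⁻¹ * t₀ := by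
            rw [hbik, h0]
            calc i * s * (k * a) = i * (s * k) * a := by group
              _ = i * (k * s) * a := by rw [comm_of_mem H.sL hk]
              _ = i * k * (s * a) := by group
              _ = 1 * (i * k) * 1⁻¹ * (a * s) := by rw [H.sa]; group
  · -- outer: impossible
    exfalso
    push Not at hin
    rw [hb] at hin
    obtain ⟨l, hl, hls, hk⟩ := H.out t₀ h m hm hin
    rw [← hb] at hin hk
    have hla := H.La l hl
    have hlt : l * t₀ = t₀ * l := (T0.sL H.toHyp0 h hla).mpr hls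
    -- replace `b` by `c = l b l⁻¹`, `m` by `l m`
    obtain ⟨n, hn⟩ : ∃ n, n = l * m := ⟨_, rfl⟩
    have hnt : n * t₀ = t₀ * n := hn ▸ mul_comm' hlt hm
    obtain ⟨c, hc⟩ : ∃ c, c = n * a * n⁻¹ := ⟨_, rfl⟩
    have hcl : c = l * b * l⁻¹ := by rw [hc, hn, hb]; group
    rw [← hcl] at hk
    have hcX : c ∈ X := hc ▸ H.XN.conj_mem a H.aX n
    have hcc : c * c = 1 := hc ▸ cj_sq H.aa
    have hca : c * a = a * c := hc ▸ H.nine h hnt
    obtain ⟨k, hkd⟩ : ∃ k, k = c * x := ⟨_, rfl⟩
    rw [← hkd] at hk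
    have hka : k * a = a * k := hkd ▸ mul_comm' hca H.xa
    have hckx : c = k * x := by rw [hkd, mul_assoc, H.xx, mul_one]
    have hxc : c * (x * c * x⁻¹) = x * c * x⁻¹ * c := by
      have h1 := H.nine' h hnt (n := x * n) (mul_comm' hxt hnt)
      have e : x * n * a * (x * n)⁻¹ = x * c * x⁻¹ := by rw [hc]; group
      rw [e, ← hc] at h1
      exact h1
    have hcxc : c * (x * c * x⁻¹) = k * k := by
      rw [H.xi, hkd]; group
    have hkk2 : (k * k) * (k * k) = 1 := by
      rw [← hcxc]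
      exact sq_mul hcc (cj_sq hcc) hxc
    have hkkx : (k * k) * x = x * (k * k) := by
      have h1 : x * (k * k) * x⁻¹ = k * k := by
        rw [← hcxc, cj_mul, hxc]
        congr 1
        rw [H.xi]
        calc x * (x * c * x) * x = (x * x) * c * (x * x) := by group
          _ = c := by rw [H.xx]; group
      exact (comm_of_cj_eq h1).symm
    rcases H.star (k * k) (mul_mem hk hk) (mul_comm' hka hka) hkkx hkk2 with h1 | h1
    · -- `k * k = 1`: `k` commutes with `x`
      have h2 : k * x = x * k := by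
        have h3 : x * c * x⁻¹ = c := by
          have h4 : c * (x * c * x⁻¹) = 1 := by rw [hcxc, h1]
          rw [eq_inv_of_mul_eq_one_right h4, inv_eq_of_mul_eq_one_left hcc]
        have h5 := comm_of_cj_eq h3
        rw [hkd]
        calc c * x * x = c * (x * x) := by group
          _ = x * (x * c) := by rw [H.xx, ← mul_assoc, H.xx]; group
          _ = x * (c * x) := by rw [h5]
      rcases H.star k hk hka h2 h1 with h3 | h3
      · apply H.xX
        rw [hckx, h3, one_mul] at hcX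
        exact hcX
      · apply H.xX
        rw [hckx, h3] at hcX
        exact (X.mul_mem_cancel_left H.aX).mp hcX
    · -- `k * k = a`
      obtain ⟨p, hp, hps, hpx⟩ := H.xs
      have hpa := H.La p hp
      have hpt : p * t₀ = t₀ * p := (T0.sL H.toHyp0 h hpa).mpr hps
      have hpk : p * k * p⁻¹ = k := cj_eq_of_comm (comm_of_mem hp hk)
      have hpc : p * c * p⁻¹ = c * s := by
        rw [hckx, cj_mul, hpk, hpx]; group
      rcases h with h0 | h0
      · apply H.bt (Or.inl h0) hnt (p * n)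
        rw [← hc, h0, ← hpc, hc]; group
      · apply H.bt (Or.inr h0) hnt (p * x * n)
        have hxcx : x * c * x⁻¹ = c * a := by
          rw [← h1, ← hcxc, ← mul_assoc, hcc, one_mul]
        calc p * x * n * a * (p * x * n)⁻¹ = p * (x * c * x⁻¹) * p⁻¹ := by rw [hc]; group
          _ = (p * c * p⁻¹) * (p * a * p⁻¹) := by rw [hxcx, cj_mul]
          _ = c * s * a := by rw [hpc, cj_eq_of_comm hpa]
          _ = n * a * n⁻¹ * t₀ := by rw [← hc, h0, mul_assoc, H.sa]

end Hyp

end Cfsg.Agent.UGT.FourA.Basic
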