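import Cfsg.Agent.UGT.FourA.Supply
import Cfsg.Agent.UGT.Res.NodeCOne

/-!
# Theorem 4A for a minimal counterexample

All triples of type `PSL(2,q)`, `x` of PGL type, no field type 2-elements, `m(C_{F(a)}(x)) = 1` for all triples: then `G` has
sectional 2-rank at most 4.
-/

set_option autoImplicit false

open Cfsg Subgroup
open Cfsg.Agent.SignalizersComponents Cfsg.Agent.Lib
open Cfsg.Agent.SignalizersComponents.IntrinsicBasic
open Cfsg.Agent.Intrinsic.Basic Cfsg.Agent.Intrinsic.Cen Cfsg.Agent.Intrinsic.Diag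
open Cfsg.Agent.UGT.Triple Cfsg.Agent.UGT.Iface Cfsg.Agent.UGT.Res.KFacts Cfsg.Agent.UGT.Res.Base
open Cfsg.Agent.UGT.FourA.Hon Cfsg.Agent.UGT.FourA.Top
open Cfsg.Agent.GH.L2Aut Cfsg.Agent.UGT.RankOneR
open scoped commutatorElement

namespace Cfsg.Agent.UGT.FourA.Final

universe u

local notation "Fs" => generalizedFittingSubgroup

variable {G : Type u} [Group G] [Finite G]

theorem perfect_fs (h : MinCex G) (f : G →* ℤˣ) {x : G} (hx : f x = -1) : x ∉ Fs G := by
  intro hxF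
  have hs := h.simple
  have h1 : (f.ker.subgroupOf (Fs G)).Normal := inferInstance
  rcases h1.eq_bot_or_eq_top with h2 | h2
  · apply h.nonab
    refine ⟨⟨fun a b => ?_⟩⟩
    have h3 : ⁅a, b⁆ ∈ f.ker.subgroupOf (Fs G) := by
      rw [mem_subgroupOf, MonoidHom.mem_ker]
      change f ((⁅a, b⁆ : ↥(Fs G)) : G) = 1
      have h4 : ((⁅a, b⁆ : ↥(Fs G)) : G) = (a : G) * b * (a : G)⁻¹ * (b : G)⁻¹ := rfl
      rw [h4, map_mul, map_mul, map_mul, map_inv, map_inv, mul_comm (f a) (f b),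
        mul_inv_cancel_right, mul_inv_cancel]
    rw [h2, mem_bot, commutatorElement_eq_one_iff_mul_comm] at h3
    exact h3
  · have h3 : (⟨x, hxF⟩ : ↥(Fs G)) ∈ f.ker.subgroupOf (Fs G) := h2 ▸ mem_top _
    rw [mem_subgroupOf, MonoidHom.mem_ker, hx] at h3
    exact absurd h3 (by decide)

theorem min_fs (hG : MinCex G) : ∀ N : Subgroup G, N.Normal → N ≤ Fs G → N ≠ ⊥ → Fs G ≤ N := by
  intro N hN hle hne
  have hs := hG.simple
  have h1 : (N.subgroupOf (Fs G)).Normal := hN.comap _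
  rcases h1.eq_bot_or_eq_top with h2 | h2
  · exfalso
    apply hne
    rw [subgroupOf_eq_bot, disjoint_iff, inf_of_le_left hle] at h2
    exact h2
  · exact subgroupOf_eq_top.mp h2

theorem not_mem_fs (hG : MinCex G) (H : Pgl G) (hN : NoFld G) (hO : OneInv G)
    (hr : ¬ SectionalPRankLE 2 4 G) {x a : G} {L : Subgroup G} (Tr : IsTriple x a L) : x ∉ Fs G := by
  obtain ⟨F, _, _, h5, R, ho⟩ := H.exists_rep Tr
  rcases rank_or (sq_of_order Tr.inva) (ne_one_of_order Tr.inva) (sq_of_order Tr.invx) Tr.comm Tr.comp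
    Tr.x_mem R
    (fun h => by
      obtain ⟨y, hy⟩ := h
      rw [← hy, R.o1_conj] at ho
      exact absurd ho (by decide)) (fun t ht hta h2 => hN x a L Tr F R t ht hta h2)
    (fun b hb hba hbx hf => hO x a L Tr b hb hba hbx hf) with h | ⟨T, Q, P, d, r, C, h1, h2, -, -, f, hf⟩
  · exact absurd h hr
  · exact perfect_fs hG f hf

theorem idx {x : G} (hx : orderOf x = 2) (hxF : x ∉ Fs G) (htop : Fs G ⊔ zpowers x = ⊤) : Idx (Fs G) x where
  XN := Trich.normal_fs
  xX := hxF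
  xx := sq_of_order hx
  cov := Res.NodeCOne.index_two hx htop

/-- **Theorem 4A** for a minimal counterexample -/
theorem false_of (hG : MinCex G) (H : Pgl G) (hN : NoFld G) (hO : OneInv G)
    (hr : ¬ SectionalPRankLE 2 4 G) {x a : G} {L : Subgroup G} (Tr : IsTriple x a L) : False := by
  have hx := not_mem_fs hG H hN hO hr Tr
  obtain ⟨C, htop⟩ := Res.NodeCOne.cfx_of hG H Tr hx
  exact Supply.false_of (idx Tr.invx hx htop) (min_fs hG) H hN hO (fun t ht h2 => C.cf ht h2) hr Tr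

end Cfsg.Agent.UGT.FourA.Final
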