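import Mathlib.GroupTheory.GroupAction.Quotient
import Mathlib.Algebra.Group.Int.Units
import Mathlib.SetTheory.Cardinal.Order
import Mathlib.Tactic

/-!
# The transfer of a sign, evaluated on the centralizer of an involution with one fixed point

`D ≤ G`, `χ : D → B`, `B` an elementary abelian 2-group, `x ∈ D` an involution fixing only one point of `G / D`: there is
`f : G → B` with `f h = χ h` for all `h ∈ C_D(x)` (`prin'`); `prin`: `B = {1, -1}`.
-/

set_option autoImplicit false

open Subgroup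

namespace Cfsg.Agent.UGT.FourA.Prin

theorem prin' {G B : Type*} [Group G] [Finite G] [CommGroup B] (hB : ∀ b : B, b * b = 1)
    (D : Subgroup G) (χ : D →* B) {x : G}
    (xx : x * x = 1) (xD : x ∈ D) (hfix : ∀ g : G, g⁻¹ * x * g ∈ D → g ∈ D) :
    ∃ f : G →* B, ∀ (h : G) (hD : h ∈ D), h * x = x * h → f h = χ ⟨h, hD⟩ := by
  classical
  have hfin : Finite (G ⧸ D) := inferInstance
  cases nonempty_fintype (G ⧸ D)
  let lo : LinearOrder (G ⧸ D) := linearOrderOfSTO WellOrderingRel
  obtain ⟨o, ho⟩ : ∃ o : G ⧸ D, o = ((1 : G) : G ⧸ D) := ⟨_, rfl⟩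
  have hxo : ∀ ω : G ⧸ D, x • ω = ω → ω = o := by
    intro ω
    induction ω using QuotientGroup.induction_on with
    | H g =>
      intro h
      have h1 : ((x * g : G) : G ⧸ D) = ((g : G) : G ⧸ D) := h
      have h2 : (x * g)⁻¹ * g ∈ D := QuotientGroup.eq.mp h1
      have h3 : g⁻¹ * x * g ∈ D := by
        have h4 := inv_mem h2
        have e : ((x * g)⁻¹ * g)⁻¹ = g⁻¹ * x * g := by group
        rwa [e] at h4
      rw [ho]
      exact QuotientGroup.eq.mpr (by rw [mul_one]; exact inv_mem (hfix g h3))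
  have hDo : ∀ h ∈ D, h • o = o := by
    intro h hh
    rw [ho]
    change ((h * 1 : G) : G ⧸ D) = _
    exact QuotientGroup.eq.mpr (by rw [mul_one, mul_one]; exact inv_mem hh)
  have hxxω : ∀ ω : G ⧸ D, x • x • ω = ω := fun ω => by rw [← mul_smul, xx, one_smul]
  have hxne : ∀ ω : G ⧸ D, ω ≠ o → x • ω ≠ o := by
    intro ω hω h
    apply hω
    rw [← hxxω ω, h, hDo x xD]
  -- representatives
  let s : G ⧸ D → G := fun ω =>
    if ω = o then 1 else if ω < x • ω then ω.out else x * (x • ω).out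
  have hs : ∀ ω, ((s ω : G) : G ⧸ D) = ω := by
    intro ω
    by_cases h1 : ω = o
    · have h2 : s ω = 1 := if_pos h1
      rw [h2, h1, ho]
    · by_cases h3 : ω < x • ω
      · have h2 : s ω = ω.out := by
          change (if ω = o then 1 else if ω < x • ω then ω.out else x * (x • ω).out) = _
          rw [if_neg h1, if_pos h3]
        rw [h2, QuotientGroup.out_eq']
      · have h2 : s ω = x * (x • ω).out := by
          change (if ω = o then 1 else if ω < x • ω then ω.out else x * (x • ω).out) = _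
          rw [if_neg h1, if_neg h3]
        rw [h2]
        change x • (((x • ω).out : G) : G ⧸ D) = ω
        rw [QuotientGroup.out_eq', hxxω]
  have hso : s o = 1 := if_pos rfl
  have hsx : ∀ ω, ω ≠ o → s (x • ω) = x * s ω := by
    intro ω h1
    have h2 := hxne ω h1
    have hne : ω ≠ x • ω := fun h => h1 (hxo ω h.symm)
    rcases lt_or_gt_of_ne hne with h3 | h3
    · have e1 : s ω = ω.out := by
        change (if ω = o then 1 else if ω < x • ω then ω.out else x * (x • ω).out) = _
        rw [if_neg h1, if_pos h3]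
      have e2 : s (x • ω) = x * (x • x • ω).out := by
        change (if x • ω = o then 1 else if x • ω < x • x • ω then (x • ω).out
          else x * (x • x • ω).out) = _
        rw [if_neg h2, if_neg]
        rw [hxxω]
        exact not_lt_of_gt h3
      rw [e2, e1, hxxω]
    · have e1 : s ω = x * (x • ω).out := by
        change (if ω = o then 1 else if ω < x • ω then ω.out else x * (x • ω).out) = _
        rw [if_neg h1, if_neg (not_lt_of_gt h3)]
      have e2 : s (x • ω) = (x • ω).out := by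
        change (if x • ω = o then 1 else if x • ω < x • x • ω then (x • ω).out
          else x * (x • x • ω).out) = _
        rw [if_neg h2, if_pos]
        rw [hxxω]
        exact h3
      rw [e2, e1, ← mul_assoc, xx, one_mul]
  -- the cocycle
  have hcD : ∀ (g : G) (ω : G ⧸ D), (s (g • ω))⁻¹ * g * s ω ∈ D := by
    intro g ω
    have h1 : ((s (g • ω) : G) : G ⧸ D) = ((g * s ω : G) : G ⧸ D) := by
      rw [hs]
      change _ = g • ((s ω : G) : G ⧸ D)
      rw [hs]
    have h2 := QuotientGroup.eq.mp h1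
    rwa [← mul_assoc] at h2
  let c : G → G ⧸ D → D := fun g ω => ⟨(s (g • ω))⁻¹ * g * s ω, hcD g ω⟩
  have hcm : ∀ (g k : G) (ω : G ⧸ D), c (g * k) ω = c g (k • ω) * c k ω := by
    intro g k ω
    apply Subtype.ext
    change (s ((g * k) • ω))⁻¹ * (g * k) * s ω =
      (s (g • k • ω))⁻¹ * g * s (k • ω) * ((s (k • ω))⁻¹ * k * s ω)
    rw [mul_smul]
    group
  have hc1 : ∀ ω, c 1 ω = 1 := by
    intro ω
    apply Subtype.ext
    change (s ((1 : G) • ω))⁻¹ * 1 * s ω = 1
    rw [one_smul, mul_one, inv_mul_cancel]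
  let f : G →* B :=
    { toFun := fun g => ∏ ω : G ⧸ D, χ (c g ω)
      map_one' := by
        refine Finset.prod_eq_one fun ω _ => ?_
        rw [hc1, map_one]
      map_mul' := by
        intro g k
        have h1 : ∀ ω : G ⧸ D, χ (c (g * k) ω) = χ (c g (k • ω)) * χ (c k ω) := by
          intro ω
          rw [hcm, map_mul]
        calc ∏ ω : G ⧸ D, χ (c (g * k) ω) = ∏ ω : G ⧸ D, (χ (c g (k • ω)) * χ (c k ω)) :=
              Finset.prod_congr rfl fun ω _ => h1 ω
          _ = (∏ ω : G ⧸ D, χ (c g (k • ω))) * ∏ ω : G ⧸ D, χ (c k ω) := Finset.prod_mul_distrib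
          _ = (∏ ω : G ⧸ D, χ (c g ω)) * ∏ ω : G ⧸ D, χ (c k ω) := by
              congr 1
              exact Equiv.prod_comp (MulAction.toPerm k) (fun ω => χ (c g ω)) }
  refine ⟨f, fun h hD hhx => ?_⟩
  have hf : f h = ∏ ω : G ⧸ D, χ (c h ω) := rfl
  have e1 : c h o = ⟨h, hD⟩ := by
    apply Subtype.ext
    change (s (h • o))⁻¹ * h * s o = h
    rw [hDo h hD, hso]
    group
  have e2 : ∀ ω, ω ≠ o → c h (x • ω) = c h ω := by
    intro ω hω
    apply Subtype.ext
    change (s (h • x • ω))⁻¹ * h * s (x • ω) = (s (h • ω))⁻¹ * h * s ω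
    have h2 : h • x • ω = x • h • ω := by rw [← mul_smul, hhx, mul_smul]
    have h3 : h • ω ≠ o := by
      intro h4
      apply hω
      have h5 : ω = h⁻¹ • o := by rw [← h4, inv_smul_smul]
      rw [h5, hDo _ (inv_mem hD)]
    rw [h2, hsx _ h3, hsx _ hω]
    calc (x * s (h • ω))⁻¹ * h * (x * s ω) = (s (h • ω))⁻¹ * x⁻¹ * (h * x) * s ω := by group
      _ = (s (h • ω))⁻¹ * x⁻¹ * (x * h) * s ω := by rw [hhx]
      _ = _ := by group
  rw [hf, ← Finset.mul_prod_erase Finset.univ _ (Finset.mem_univ o), e1]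
  have hP : ∏ ω ∈ Finset.univ.erase o, χ (c h ω) = 1 := by
    refine Finset.prod_involution (fun ω _ => x • ω) ?_ ?_ ?_ ?_
    · intro ω hω
      rw [e2 ω (Finset.ne_of_mem_erase hω)]
      exact hB _
    · intro ω hω _ h1
      exact Finset.ne_of_mem_erase hω (hxo ω h1)
    · intro ω hω
      exact Finset.mem_erase.mpr ⟨hxne ω (Finset.ne_of_mem_erase hω), Finset.mem_univ _⟩
    · intro ω _
      exact hxxω ω
  rw [hP, mul_one]

theorem prin {G : Type*} [Group G] [Finite G] (D : Subgroup G) (χ : D →* ℤˣ) {x : G}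
    (xx : x * x = 1) (xD : x ∈ D) (hfix : ∀ g : G, g⁻¹ * x * g ∈ D → g ∈ D) :
    ∃ f : G →* ℤˣ, ∀ (h : G) (hD : h ∈ D), h * x = x * h → f h = χ ⟨h, hD⟩ :=
  prin' (fun b => by rcases Int.units_eq_one_or b with h | h <;> rw [h] <;> rfl) D χ xx xD hfix

end Cfsg.Agent.UGT.FourA.Prin
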