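import Cfsg.Agent.UGT.Res.FldCens

/-!
# An involutory field automorphism of `PSL(2,F)` centralizing a torus

`ξ` an involution of PGL type, `s` an involution of `C(ξ)`, `α` an involutory automorphism of field type fixing `s` and
all `ξ(h⁻¹) h`, `h ∈ C(s)`: then `|F|` is 9, 25 or 49; in particular every automorphism of `F` has square one.
-/

set_option autoImplicit false

namespace Cfsg.Agent.UGT.FourA.Small

open Matrix Cfsg.Agent.GH.L2Aut Cfsg.Agent.Lib.SL2Mat Cfsg.Agent.Lib.AutSL2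

variable {F : Type*} [Field F] [Finite F]

theorem card_le (K : Subfield F) (hcard : Nat.card F = Nat.card K ^ 2)
    (h : ∀ l : F, l ≠ 0 → l ^ 4 + l⁻¹ ^ 4 ∈ K) : Nat.card K ≤ 8 := by
  classical
  have := Fintype.ofFinite F
  have := Fintype.ofFinite K
  have h1 : (Finset.univ.erase (0 : F)).card ≤ 8 * (Finset.univ : Finset K).card := by
    refine Finset.card_le_mul_card_image_of_maps_to
      (f := fun l : F => if hl : l ≠ 0 then (⟨l ^ 4 + l⁻¹ ^ 4, h l hl⟩ : K) else 0)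
      (fun l _ => Finset.mem_univ _) 8 fun b _ => ?_
    let P : Polynomial F := Polynomial.X ^ 8 - Polynomial.C (b : F) * Polynomial.X ^ 4 + 1
    have hdeg : P.natDegree = 8 := by
      have e : P = Polynomial.X ^ 8 - Polynomial.C (b : F) * Polynomial.X ^ 4 + 1 := rfl
      rw [e]
      compute_degree!
    have hP : P ≠ 0 := by
      intro h0
      rw [h0, Polynomial.natDegree_zero] at hdeg
      exact absurd hdeg (by norm_num)
    have hsub : (Finset.univ.erase (0 : F)).filter (fun l : F =>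
        (if hl : l ≠ 0 then (⟨l ^ 4 + l⁻¹ ^ 4, h l hl⟩ : K) else 0) = b) ⊆ P.roots.toFinset := by
      intro l hl
      obtain ⟨h2, h3⟩ := Finset.mem_filter.mp hl
      have h4 : l ≠ 0 := Finset.ne_of_mem_erase h2
      rw [dif_pos h4] at h3
      have h5 : l ^ 4 + l⁻¹ ^ 4 = (b : F) := congrArg Subtype.val h3
      rw [Multiset.mem_toFinset, Polynomial.mem_roots hP, Polynomial.IsRoot.def]
      have e : P = Polynomial.X ^ 8 - Polynomial.C (b : F) * Polynomial.X ^ 4 + 1 := rfl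
      rw [e]
      simp only [Polynomial.eval_add, Polynomial.eval_sub, Polynomial.eval_pow, Polynomial.eval_X,
        Polynomial.eval_mul, Polynomial.eval_C, Polynomial.eval_one]
      rw [← h5]
      field_simp
      ring
    refine (Finset.card_le_card hsub).trans ((Multiset.toFinset_card_le _).trans ?_)
    exact (Polynomial.card_roots' P).trans hdeg.le
  rw [Finset.card_erase_of_mem (Finset.mem_univ _), Finset.card_univ, Finset.card_univ,
    ← Nat.card_eq_fintype_card, ← Nat.card_eq_fintype_card, hcard] at h1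
  by_contra h2
  have h3 : 9 ≤ Nat.card K := by omega
  have h4 : 9 * Nat.card K ≤ Nat.card K ^ 2 := by rw [pow_two]; exact Nat.mul_le_mul_right _ h3
  omega

theorem aut_two (h2 : (2 : F) ≠ 0) (K : Subfield F) (hcard : Nat.card F = Nat.card K ^ 2)
    (hK : Nat.card K ≤ 8) (τ : F ≃+* F) : τ * τ = 1 := by
  obtain ⟨K', -, h1⟩ := Cfsg.Agent.GH.L2Aut.exists_fixed_field τ
  have ho : Odd (Nat.card K) := Cfsg.Agent.GH.L2Aut.odd_card (Cfsg.Agent.GH.L2Aut.two_sub h2 K)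
  have hk : 1 < Nat.card K := Finite.one_lt_card
  have hk' : 1 < Nat.card K' := Finite.one_lt_card
  have hpos : 0 < orderOf τ := by
    have := Cfsg.Agent.GH.L2Aut.finite_ringEquiv (F := F)
    exact orderOf_pos τ
  obtain ⟨m, hm⟩ : ∃ m, m = orderOf τ := ⟨_, rfl⟩
  obtain ⟨n, hn⟩ : ∃ n, n = Nat.card K := ⟨_, rfl⟩
  obtain ⟨k, hkd⟩ : ∃ k, k = Nat.card K' := ⟨_, rfl⟩
  rw [hcard, ← hm, ← hn, ← hkd] at h1
  rw [← hn] at ho hk hK
  rw [← hkd] at hk'
  rw [← hm] at hpos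
  have h3 : m ≤ 5 := by
    by_contra h4
    have h5 : 2 ^ 6 ≤ k ^ m := (Nat.pow_le_pow_left hk' 6).trans (Nat.pow_le_pow_right (by omega) (by omega))
    have h6 : n ≤ 7 := by
      rcases Nat.lt_or_ge n 8 with h7 | h7
      · omega
      · have h8 : n = 8 := by omega
        rw [h8] at ho
        exact absurd ho (by decide)
    have h7 : n ^ 2 ≤ 7 ^ 2 := Nat.pow_le_pow_left h6 2
    omega
  have hdiv : orderOf τ ∣ 2 := by
    rw [← hm]
    have h9 : n = 3 ∨ n = 5 ∨ n = 7 := by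
      interval_cases n
      · exact absurd ho (by decide)
      · exact Or.inl rfl
      · exact absurd ho (by decide)
      · exact Or.inr (Or.inl rfl)
      · exact absurd ho (by decide)
      · exact Or.inr (Or.inr rfl)
      · exact absurd ho (by decide)
    have hk3 : 3 ≤ m → k ≤ 3 := by
      intro h4
      by_contra h5
      have h6 : 4 ^ 3 ≤ k ^ m := (Nat.pow_le_pow_left (by omega) 3).trans
        (Nat.pow_le_pow_right (by omega) h4)
      rcases h9 with h9 | h9 | h9 <;> rw [h9] at h1 <;> omega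
    rcases Nat.lt_or_ge m 3 with h4 | h4
    · interval_cases m
      · exact one_dvd _
      · exact dvd_refl _
    · exfalso
      have h5 := hk3 h4
      interval_cases m <;> interval_cases k <;> rcases h9 with h9 | h9 | h9 <;> rw [h9] at h1 <;>
        norm_num at h1
  rw [← pow_two]
  exact orderOf_dvd_iff_pow_eq_one.mp hdiv

section rep

open Cfsg.Agent.OddHalf.D6

variable {L : Type*} [Group L] (R : Cfsg.Agent.GH.L2Aut.Rep F L)

omit [Finite F] in
theorem inv_eq_neg {i : F} (hi : i * i = -1) : i⁻¹ = -i := by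
  have h0 : i ≠ 0 := by
    rintro rfl
    rw [mul_zero] at hi
    exact one_ne_zero (neg_eq_zero.mp hi.symm)
  apply mul_left_cancel₀ h0
  rw [mul_inv_cancel₀ h0, mul_neg, hi, neg_neg]

/-- `ξ` inverts the diagonal torus -/
theorem inv_diag {ξ : MulAut L} (hξ : ξ * ξ = 1) (ho : R.o1 ξ = -1) {i : F} (hi0 : i ≠ 0)
    (hi : i * i = -1) (hv : ξ (R.π (dg i hi0)) = R.π (dg i hi0)) (l : F) (hl : l ≠ 0) :
    ξ (R.π (dg l hl)) = (R.π (dg l hl))⁻¹ := by
  obtain ⟨g, rfl⟩ := R.mem_PGL.1 (PglType.pgl_of R hξ ho).1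
  have htr := R.tr_of_inv (PglType.ne_one R ho) hξ
  rw [Matrix.trace_fin_two] at htr
  have hii := inv_eq_neg hi
  rw [R.gl_apply, R.π_eq_iff] at hv
  have h2i : (2 : F) * i ≠ 0 := mul_ne_zero R.two hi0
  rcases hv with hv | hv
  · exfalso
    have h1 := of_conjGL_eq hv
    have e01 := congrFun (congrFun h1 0) 1
    have e10 := congrFun (congrFun h1 1) 0
    rw [mat_mul, mat_mul] at e01 e10
    have d00 : (dg i hi0).1 0 0 = i := rfl
    have d01 : (dg i hi0).1 0 1 = 0 := rfl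
    have d10 : (dg i hi0).1 1 0 = 0 := rfl
    have d11 : (dg i hi0).1 1 1 = i⁻¹ := rfl
    rw [d00, d01, d11] at e01
    rw [d00, d10, d11] at e10
    rw [hii] at e01 e10
    have hb : g.1 0 1 = 0 := by
      have h3 : (2 * i) * g.1 0 1 = 0 := by linear_combination -e01
      exact (mul_eq_zero.mp h3).resolve_left h2i
    have hc : g.1 1 0 = 0 := by
      have h3 : (2 * i) * g.1 1 0 = 0 := by linear_combination e10
      exact (mul_eq_zero.mp h3).resolve_left h2i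
    have h4 : IsSquare g.1.det := by
      refine ⟨i * g.1 0 0, ?_⟩
      rw [Matrix.det_fin_two, hb, hc]
      linear_combination (g.1 0 0) * htr - (g.1 0 0) * (g.1 0 0) * hi
    rw [R.o1_gl_eq_one_iff.2 h4] at ho
    exact absurd ho (by decide)
  · have h1 := of_conjGL_eq hv
    have e00 := congrFun (congrFun h1 0) 0
    have e11 := congrFun (congrFun h1 1) 1
    rw [mat_mul, mat_mul] at e00 e11
    have d00 : (dg i hi0).1 0 0 = i := rfl
    have d01 : (dg i hi0).1 0 1 = 0 := rfl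
    have d10 : (dg i hi0).1 1 0 = 0 := rfl
    have d11 : (dg i hi0).1 1 1 = i⁻¹ := rfl
    have n00 : (-(dg i hi0)).1 0 0 = -i := rfl
    have n01 : (-(dg i hi0)).1 0 1 = -0 := rfl
    have n10 : (-(dg i hi0)).1 1 0 = -0 := rfl
    have n11 : (-(dg i hi0)).1 1 1 = -i⁻¹ := rfl
    rw [d00, d10, n00, n01] at e00
    rw [d01, d11, n10, n11] at e11
    rw [hii] at e11
    have ha : g.1 0 0 = 0 := by
      have h3 : (2 * i) * g.1 0 0 = 0 := by linear_combination e00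
      exact (mul_eq_zero.mp h3).resolve_left h2i
    have hd : g.1 1 1 = 0 := by
      have h3 : (2 * i) * g.1 1 1 = 0 := by linear_combination -e11
      exact (mul_eq_zero.mp h3).resolve_left h2i
    rw [R.gl_apply, ← map_inv]
    congr 1
    apply conjGL_eq_of
    have hinv : (dg l hl)⁻¹ = mk l⁻¹ 0 0 l (by rw [inv_mul_cancel₀ hl]; ring) := by
      rw [ent_inv]
      refine ext_ent rfl ?_ ?_ rfl
      · exact neg_zero
      · exact neg_zero
    rw [hinv]
    apply mat_ext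
    · rw [mat_mul, mat_mul]
      change g.1 0 0 * l + g.1 0 1 * 0 = l⁻¹ * g.1 0 0 + 0 * g.1 1 0
      rw [ha]; ring
    · rw [mat_mul, mat_mul]
      change g.1 0 0 * 0 + g.1 0 1 * l⁻¹ = l⁻¹ * g.1 0 1 + 0 * g.1 1 1
      ring
    · rw [mat_mul, mat_mul]
      change g.1 1 0 * l + g.1 1 1 * 0 = 0 * g.1 0 0 + l * g.1 1 0
      ring
    · rw [mat_mul, mat_mul]
      change g.1 1 0 * 0 + g.1 1 1 * l⁻¹ = 0 * g.1 0 1 + l * g.1 1 1
      rw [hd]; ring

/-- `α` fixes the square of a diagonal element -/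
theorem tr_fix {α : MulAut L} {σ : F ≃+* F} (hσ : R.fld α = σ) {l : F} (hl : l ≠ 0)
    (h : α (R.π (dg l hl)) = R.π (dg l hl)) :
    σ ((l + l⁻¹) * (l + l⁻¹)) = (l + l⁻¹) * (l + l⁻¹) := by
  obtain ⟨g, hg⟩ := R.exists_eq α
  rw [hσ] at hg
  rw [hg, MulAut.mul_apply, R.fa_apply, R.gl_apply, R.π_eq_iff] at h
  have htr : ∀ y, (conjGL g y).1.trace = y.1.trace := by
    intro y
    rw [conjGL_val, Matrix.trace_mul_comm, ← Matrix.mul_assoc, ← Units.val_mul, inv_mul_cancel,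
      Units.val_one, Matrix.one_mul]
  have h1 : (fieldAut σ (dg l hl)).1.trace = σ l + σ l⁻¹ := by
    rw [Matrix.trace_fin_two]; rfl
  have h2 : (dg l hl).1.trace = l + l⁻¹ := by
    rw [Matrix.trace_fin_two]; rfl
  have h3 : (-(dg l hl)).1.trace = -(l + l⁻¹) := by
    change (-(dg l hl).1).trace = _
    rw [Matrix.trace_neg, h2]
  rcases h with h | h
  · have h4 := htr (fieldAut σ (dg l hl))
    rw [h, h1, h2] at h4
    rw [map_mul, map_add, ← h4]
  · have h4 := htr (fieldAut σ (dg l hl))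
    rw [h, h1, h3] at h4
    rw [map_mul, map_add, ← h4]
    ring

omit [Finite F] in
theorem dg_sq (l : F) (hl : l ≠ 0) : dg l hl * dg l hl = dg (l * l) (mul_ne_zero hl hl) := by
  refine ext_ent ?_ ?_ ?_ ?_ <;> rw [ent_mul]
  · change l * l + 0 * 0 = l * l; ring
  · change l * 0 + 0 * l⁻¹ = 0; ring
  · change 0 * l + l⁻¹ * 0 = 0; ring
  · change 0 * 0 + l⁻¹ * l⁻¹ = (l * l)⁻¹
    rw [mul_inv]; ring

/-- the case `s = diag(i, -i)` -/
theorem diag {ξ α : MulAut L} (hξ : ξ * ξ = 1) (ho : R.o1 ξ = -1) (hα : α * α = 1)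
    (hf : R.fld α ≠ 1) {i : F} (hi0 : i ≠ 0) (hi : i * i = -1)
    (hv : ξ (R.π (dg i hi0)) = R.π (dg i hi0))
    (H : ∀ h, h * R.π (dg i hi0) = R.π (dg i hi0) * h → α (ξ h⁻¹ * h) = ξ h⁻¹ * h) (τ : F ≃+* F) :
    τ * τ = 1 := by
  obtain ⟨σ, hσ⟩ : ∃ σ, σ = R.fld α := ⟨_, rfl⟩
  rw [← hσ] at hf
  have hσ2 : σ * σ = 1 := by rw [hσ, ← map_mul, hα, map_one]
  have hord : orderOf σ = 2 := by
    rw [orderOf_eq_prime_iff]
    exact ⟨by rw [sq]; exact hσ2, hf⟩
  obtain ⟨K, hK, hcard⟩ := Cfsg.Agent.GH.L2Aut.exists_fixed_field σ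
  rw [hord] at hcard
  refine aut_two R.two K hcard (card_le K hcard fun l hl => ?_) τ
  have h1 := H (R.π (dg l hl)) (by
    rw [← map_mul, ← map_mul]
    congr 1
    refine ext_ent ?_ ?_ ?_ ?_ <;> rw [ent_mul, ent_mul]
    · change l * i + 0 * 0 = i * l + 0 * 0; ring
    · change l * 0 + 0 * i⁻¹ = i * 0 + 0 * l⁻¹; ring
    · change 0 * i + l⁻¹ * 0 = 0 * l + i⁻¹ * 0; ring
    · change 0 * 0 + l⁻¹ * i⁻¹ = 0 * 0 + i⁻¹ * l⁻¹; ring)
  rw [map_inv ξ, inv_diag R hξ ho hi0 hi hv l hl, inv_inv, ← map_mul, dg_sq] at h1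
  have h2 := tr_fix R hσ.symm (mul_ne_zero hl hl) h1
  have h3 := (hK _).2 h2
  have h4 : l ^ 4 + l⁻¹ ^ 4 = (l * l + (l * l)⁻¹) * (l * l + (l * l)⁻¹) - 2 := by
    rw [mul_inv]
    have h5 : l * l⁻¹ = 1 := mul_inv_cancel₀ hl
    linear_combination (-2) * (l * l⁻¹ + 1) * h5
  rw [h4]
  exact sub_mem h3 (by
    have : (2 : F) = 1 + 1 := by norm_num
    rw [this]
    exact add_mem (one_mem K) (one_mem K))

/-- **the field is small** -/
theorem small {ξ α : MulAut L} {s : L} (hξ : ξ * ξ = 1) (ho : R.o1 ξ = -1) (hα : α * α = 1)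
    (hf : R.fld α ≠ 1) (hs : s * s = 1) (hs1 : s ≠ 1) (hξs : ξ s = s)
    (H : ∀ h, h * s = s * h → α (ξ h⁻¹ * h) = ξ h⁻¹ * h) (τ : F ≃+* F) : τ * τ = 1 := by
  obtain ⟨σ, hσ⟩ : ∃ σ, σ = R.fld α := ⟨_, rfl⟩
  have hf' := hf
  rw [← hσ] at hf'
  have hσ2 : σ * σ = 1 := by rw [hσ, ← map_mul, hα, map_one]
  have hord : orderOf σ = 2 := by
    rw [orderOf_eq_prime_iff]
    exact ⟨by rw [sq]; exact hσ2, hf'⟩
  obtain ⟨K, hK, hcard⟩ := Cfsg.Agent.GH.L2Aut.exists_fixed_field σ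
  rw [hord] at hcard
  obtain ⟨i, hi'⟩ := Cfsg.Agent.GH.L2Aut.isSquare_of_mem R.two (m := 2) hcard even_two
    (neg_mem (one_mem K) : (-1 : F) ∈ K)
  have hi : i * i = -1 := hi'.symm
  have hi0 : i ≠ 0 := by
    rintro rfl
    rw [mul_zero] at hi
    exact one_ne_zero (neg_eq_zero.mp hi.symm)
  obtain ⟨v, hv⟩ : ∃ v, v = R.π (dg i hi0) := ⟨_, rfl⟩
  have hdd : dg i hi0 * dg i hi0 = -1 := by
    rw [dg_sq]
    refine ext_ent ?_ ?_ ?_ ?_
    · exact hi
    · exact neg_zero.symm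
    · exact neg_zero.symm
    · change (i * i)⁻¹ = -1
      rw [hi, inv_neg, inv_one]
  have hvv : v * v = 1 := by
    rw [hv, ← map_mul, R.ker]
    exact Or.inr hdd
  have hv1 : v ≠ 1 := by
    rw [hv]
    exact Cfsg.Agent.UGT.Res.FldCens.π_ne_one R hdd
  obtain ⟨y, hy⟩ := R.inv_conj hs hs1 hvv hv1
  obtain ⟨c, hc⟩ : ∃ c : MulAut L, c = MulAut.conj y := ⟨_, rfl⟩
  have hcs : c s = v := by rw [hc, MulAut.conj_apply, hy]
  have hcv : c⁻¹ v = s := by rw [← hcs, MulAut.inv_apply_self]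
  refine diag R (ξ := c * ξ * c⁻¹) (α := c * α * c⁻¹) ?_ ?_ ?_ ?_ hi0 hi ?_ ?_ τ
  · calc c * ξ * c⁻¹ * (c * ξ * c⁻¹) = c * (ξ * ξ) * c⁻¹ := by group
      _ = 1 := by rw [hξ]; group
  · rw [R.o1_conj_eq, ho]
  · calc c * α * c⁻¹ * (c * α * c⁻¹) = c * (α * α) * c⁻¹ := by group
      _ = 1 := by rw [hα]; group
  · rw [map_mul, map_mul, map_inv, R.mem_PGL_iff_fld.1 (hc ▸ R.conj_mem_PGL y), inv_one, mul_one,
      one_mul]
    exact hf
  · rw [← hv]
    change c (ξ (c⁻¹ v)) = v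
    rw [hcv, hξs, hcs]
  · rw [← hv]
    intro h hh
    have h1 := H (c⁻¹ h) (by
      rw [← hcv, ← map_mul, hh, map_mul])
    change c (α (c⁻¹ (c (ξ (c⁻¹ h⁻¹)) * h))) = c (ξ (c⁻¹ h⁻¹)) * h
    have e1 : c⁻¹ (c (ξ (c⁻¹ h⁻¹)) * h) = ξ (c⁻¹ h)⁻¹ * c⁻¹ h := by
      rw [map_mul, MulAut.inv_apply_self, map_inv]
    rw [e1, h1, map_mul, MulAut.apply_inv_self]
    congr 1
    rw [map_inv ξ, map_inv c, map_inv c⁻¹, map_inv ξ, map_inv c]

end rep

end Cfsg.Agent.UGT.FourA.Small
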