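import Cfsg.Agent.UGT.FourA.Small
import Cfsg.Agent.UGT.FourA.Prin
import Cfsg.Agent.UGT.FourA.Zero
import Cfsg.Agent.UGT.FourA.End

/-!
# Theorem 4A with field type 2-elements: the conjugates of `a` under `C(s)`, `C(as)` are never of field type
-/

set_option autoImplicit false

open Subgroup Cfsg.Agent.OddHalf.D6 Cfsg.Agent.UGT.Res.EFacts
open Cfsg.Agent.UGT.ThE.Base (IsS)

namespace Cfsg.Agent.UGT.FourA.TenF

open Cfsg.Agent.UGT.ThE Cfsg.Agent.UGT.ThE.Base Cfsg.Agent.UGT.FourA.Basic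
open Cfsg.Agent.UGT.FourA.Basic.Hyp0

variable {G : Type*} [Group G] [Finite G] {X L : Subgroup G} {x a s : G}
variable {F : Type*} [Field F] [Finite F] {R : Cfsg.Agent.GH.L2Aut.Rep F L}

/-- a field type element does not commute with `x` modulo `C(L)` -/
theorem no_comm (C : Cf R x) {e : G} (he : e ∈ normalizer (L : Set G)) (hee : e * e = 1)
    (hf : R.fld (act L e he) ≠ 1) (h : e * x * e⁻¹ * x⁻¹ ∈ centralizer (L : Set G)) : False := by
  have hfx : R.fld (act L x C.xN) = 1 := R.mem_PGL_iff_fld.1 (PglType.pgl_of R C.sq (C.o1 C.xN)).1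
  have hfs : ∀ s ∈ L, ∀ hs : s ∈ normalizer (L : Set G), R.fld (act L s hs) = 1 := fun s hs _ => by
    rw [act_of_mem hs]
    exact R.mem_PGL_iff_fld.1 (R.conj_mem_PGL _)
  have key : ∀ y (hy : y ∈ normalizer (L : Set G)), e * y ∈ centralizer (L : Set G) →
      R.fld (act L y hy) = 1 → False := by
    intro y hy h1 h2
    apply hf
    have h3 := (act_one_iff' (mul_mem he hy)).mpr h1
    rw [← act_mul he hy] at h3
    have h4 := congrArg R.fld h3
    rwa [map_mul, h2, mul_one, map_one] at h4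
  rcases C.cenx e he hee h with h1 | h1 | ⟨s, hs, h1 | h1⟩
  · exact key 1 (one_mem _) (by rwa [mul_one]) (by
      have h3 := (act_one_iff' (one_mem (normalizer (L : Set G)))).mpr (one_mem _)
      rw [h3, map_one])
  · exact key x C.xN h1 hfx
  · exact key s (le_normalizer hs.mem) h1 (hfs s hs.mem _)
  · refine key (x * s) (mul_mem C.xN (le_normalizer hs.mem)) (by rwa [← mul_assoc]) ?_
    rw [← act_mul C.xN (le_normalizer hs.mem), map_mul, hfx, hfs s hs.mem, one_mul]

/-- claim A -/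
theorem claimA (H : Hyp0 X L x a s) (C : Cf R x) {t₀ : G} (h : T0 a s t₀) {m : G}
    (hm : m * t₀ = t₀ * m) (hbN : m * a * m⁻¹ ∈ normalizer (L : Set G))
    (hf : R.fld (act L (m * a * m⁻¹) hbN) ≠ 1) :
    m * a * m⁻¹ * x * (m * a * m⁻¹)⁻¹ = a * t₀ * x := by
  obtain ⟨b, hb⟩ : ∃ b, b = m * a * m⁻¹ := ⟨_, rfl⟩
  have hba : b * a = a * b := hb ▸ H.nine h hm
  have hbb : b * b = 1 := hb ▸ cj_sq H.aa
  have hbX : b ∈ X := hb ▸ H.XN.conj_mem a H.aX m
  have hbt : b * t₀ = t₀ * b := by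
    have h2 : m * t₀ * m⁻¹ = t₀ := cj_eq_of_comm hm
    have h3 := cj_comm (g := m) (T0.comm_a H h)
    rw [h2, ← hb] at h3
    exact h3.symm
  have hbs : b * s = s * b := (T0.sL H h hba).mp hbt
  have hxt : x * t₀ = t₀ * x := (T0.comm_x H h).symm
  have hcb : b * (x * b * x⁻¹) = x * b * x⁻¹ * b := by
    have h1 := H.nine' h hm (n := x * m) (mul_comm' hxt hm)
    have e : x * m * a * (x * m)⁻¹ = x * b * x⁻¹ := by rw [hb]; group
    rw [e, ← hb] at h1
    exact h1
  have hfb : ∀ hN : b ∈ normalizer (L : Set G), R.fld (act L b hN) ≠ 1 := by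
    subst hb
    exact fun _ => hf
  rw [← hb] at hbN ⊢
  clear hf
  have hbi : b⁻¹ = b := inv_eq_of_mul_eq_one_left hbb
  have hxbb : x * b * x⁻¹ * (x * b * x⁻¹) = 1 := cj_sq hbb
  obtain ⟨c, hc⟩ : ∃ c, c = b * (x * b * x⁻¹) := ⟨_, rfl⟩
  have hcX : c ∈ X := hc ▸ X.mul_mem hbX (H.XN.conj_mem b hbX x)
  have hcc : c * c = 1 := hc ▸ sq_mul hbb hxbb hcb
  have hxcx : x * c * x⁻¹ = c := by
    rw [hc, cj_mul, hcb]
    congr 1
    rw [H.xi]
    calc x * (x * b * x) * x = (x * x) * b * (x * x) := by group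
      _ = b := by rw [H.xx]; group
  have hcx : c * x = x * c := (comm_of_cj_eq hxcx).symm
  have hxa := H.xa
  have hca : c * a = a * c := by
    rw [hc]
    refine mul_comm' hba ?_
    have h1 := cj_comm (g := x) hba
    rwa [cj_eq_of_comm hxa] at h1
  have hcs : c * s = s * c := by
    rw [hc]
    refine mul_comm' hbs ?_
    have h1 := cj_comm (g := x) hbs
    rwa [cj_eq_of_comm H.sx.symm] at h1
  have hxbx : x * b * x⁻¹ = b * c := by
    rw [hc, ← mul_assoc, hbb, one_mul]
  -- `c ≠ 1`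
  have hc1 : c ≠ 1 := by
    intro h1
    rw [h1, mul_one] at hxbx
    have h2 : b * x = x * b := (comm_of_cj_eq hxbx).symm
    have h3 : m * a * m⁻¹ = a := H.fixd (by rw [← hb]; exact h2)
    rw [← hb] at h3
    apply hfb hbN
    have h4 := (act_one_iff' hbN).mpr (by rw [h3]; exact H.aK)
    rw [h4, map_one]
  -- `c ≠ a`
  have hcna : c ≠ a := by
    intro h1
    refine no_comm C hbN hbb (hfb hbN) ?_
    have h2 : b * x * b⁻¹ * x⁻¹ = c := by
      rw [hc, hbi]; group
    rw [h2, h1]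
    exact H.aK
  have hcase : c = s ∨ c = a * s := by
    obtain ⟨d, hd, hdx, h2⟩ := H.cls c hcX hcx hcc hc1
    have hda := H.La d hd
    have hdia : d⁻¹ * a * d = a := by
      calc d⁻¹ * a * d = d⁻¹ * (a * d) := by group
        _ = d⁻¹ * (d * a) := by rw [hda]
        _ = a := by group
    obtain ⟨s', hs'⟩ : ∃ s', s' = d⁻¹ * s * d := ⟨_, rfl⟩
    have hs'L : s' ∈ L := by rw [hs']; exact mul_mem (mul_mem (inv_mem hd) H.sL) hd
    have hs'x : s' * x = x * s' := by
      rw [hs']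
      exact mul_comm' (mul_comm' (inv_comm hdx) H.sx) hdx
    have hs's : s' * s' = 1 := by
      have := cj_sq (g := d⁻¹) H.ss
      rw [inv_inv] at this
      rw [hs']; exact this
    have hs'1 : s' ≠ 1 := by
      have := cj_ne (g := d⁻¹) H.s1
      rw [inv_inv] at this
      rw [hs']; exact this
    rcases h2 with h2 | h2 | h2
    · exfalso
      apply hcna
      calc c = d⁻¹ * (d * c * d⁻¹) * d := by group
        _ = a := by rw [h2, hdia]
    · left
      have e : c = s' := by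
        calc c = d⁻¹ * (d * c * d⁻¹) * d := by group
          _ = s' := by rw [h2, hs']
      rcases H.commS s' hs'L hs'x hs's (e ▸ hcs) with h4 | h4
      · exact absurd h4 hs'1
      · rw [e, h4]
    · right
      have e : c = a * s' := by
        calc c = d⁻¹ * (d * c * d⁻¹) * d := by group
          _ = (d⁻¹ * a * d) * (d⁻¹ * s * d) := by rw [h2]; group
          _ = a * s' := by rw [hdia, hs']
      have h3 : s' * s = s * s' := by
        apply mul_left_cancel (a := a)
        calc a * (s' * s) = a * s' * s := by group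
          _ = s * (a * s') := by rw [← e]; exact hcs
          _ = (s * a) * s' := by group
          _ = a * (s * s') := by rw [H.sa]; group
      rcases H.commS s' hs'L hs'x hs's h3 with h4 | h4
      · exact absurd h4 hs'1
      · rw [e, h4]
  -- `c ≠ t₀`
  have hct : c ≠ t₀ := by
    intro h1
    apply H.bt h hm (x * m)
    calc x * m * a * (x * m)⁻¹ = x * b * x⁻¹ := by rw [hb]; group
      _ = m * a * m⁻¹ * t₀ := by rw [hxbx, h1, hb]
  have hct' : c = a * t₀ := by
    rcases h with h | h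
    · rw [h] at hct ⊢
      exact hcase.resolve_left hct
    · rw [h] at hct ⊢
      rw [hcase.resolve_right hct, ← mul_assoc, H.aa, one_mul]
  rw [← hct', hc, hbi]
  group

/-- **no conjugate of `a` under `C(t₀)` is of field type** -/
theorem no_fld (H : Hyp0 X L x a s) (C : Cf R x) (cov : ∀ g, g ∈ X ∨ g * x ∈ X)
    (hXp : X ≤ commutator G) {n : G} (hn : n ∈ centralizer (L : Set G))
    (hnx : n * x * n⁻¹ = x * a) {t₀ : G} (h : T0 a s t₀) {m : G}
    (hm : m * t₀ = t₀ * m) (hbN : m * a * m⁻¹ ∈ normalizer (L : Set G)) :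
    R.fld (act L (m * a * m⁻¹) hbN) = 1 := by
  by_contra hf
  have hA := claimA H C h hm hbN hf
  obtain ⟨b, hb⟩ : ∃ b, b = m * a * m⁻¹ := ⟨_, rfl⟩
  have hbb : b * b = 1 := hb ▸ cj_sq H.aa
  have hfb : ∀ hN : b ∈ normalizer (L : Set G), R.fld (act L b hN) ≠ 1 := by
    subst hb
    exact fun _ => hf
  have hfS : ∀ l ∈ L, ∀ hl : l ∈ normalizer (L : Set G), R.fld (act L l hl) = 1 := fun s hs _ => by
    rw [act_of_mem hs]
    exact R.mem_PGL_iff_fld.1 (R.conj_mem_PGL _)
  have hfx : R.fld (act L x C.xN) = 1 := R.mem_PGL_iff_fld.1 (PglType.pgl_of R C.sq (C.o1 C.xN)).1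
  -- claim B
  have hsN : s ∈ normalizer (L : Set G) := le_normalizer H.sL
  have hB : ∀ l : L, l * ⟨s, H.sL⟩ = ⟨s, H.sL⟩ * l →
      act L b (hb ▸ hbN) (act L x C.xN l⁻¹ * l) = act L x C.xN l⁻¹ * l := by
    rintro ⟨l, hl⟩ hls
    have hls' : l * s = s * l := congrArg Subtype.val hls
    have hla : l * a = a * l := H.La l hl
    have hlt : l * t₀ = t₀ * l := (T0.sL H h hla).mpr hls'
    have e1 : l * m * a * (l * m)⁻¹ = l * b * l⁻¹ := by rw [hb]; group
    have hlN := le_normalizer hl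
    have hbN' : b ∈ normalizer (L : Set G) := hb ▸ hbN
    have hlbN : l * b * l⁻¹ ∈ normalizer (L : Set G) := mul_mem (mul_mem hlN hbN') (inv_mem hlN)
    have hlf : R.fld (act L (l * b * l⁻¹) hlbN) ≠ 1 := by
      rw [← act_mul (mul_mem hlN hbN') (inv_mem hlN), ← act_mul hlN hbN', map_mul, map_mul,
        hfS l hl, hfS l⁻¹ (inv_mem hl), one_mul, mul_one]
      exact hfb hbN'
    have hA' := claimA H C h (m := l * m) (mul_comm' hlt hm) (e1 ▸ hlbN) (by
      intro h0
      apply hlf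
      have h4 : ∀ y (hy : y ∈ normalizer (L : Set G)), y = l * m * a * (l * m)⁻¹ →
          R.fld (act L y hy) = 1 := by
        rintro y hy rfl
        exact h0
      exact h4 _ _ e1.symm)
    rw [e1] at hA'
    rw [← hb] at hA
    -- `b` commutes with `z`
    have hat : ∀ y, y * a = a * y → y * t₀ = t₀ * y → y * (a * t₀) = a * t₀ * y :=
      fun y h1 h2 => comm_mul h1 h2
    have hlat := hat l hla hlt
    have hxat := hat x H.xa (T0.comm_x H h).symm
    obtain ⟨w, hw⟩ : ∃ w, w = a * t₀ := ⟨_, rfl⟩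
    rw [← hw] at hA hA' hlat hxat
    have h5 : b * (l⁻¹ * x * l) * b⁻¹ = w * (l⁻¹ * x * l) := by
      calc b * (l⁻¹ * x * l) * b⁻¹ = l⁻¹ * (l * b * l⁻¹ * x * (l * b * l⁻¹)⁻¹) * l := by group
        _ = l⁻¹ * (w * x) * l := by rw [hA']
        _ = (l⁻¹ * w) * x * l := by group
        _ = (w * l⁻¹) * x * l := by rw [inv_comm hlat]
        _ = _ := by group
    have h6 : b * (x * (l⁻¹ * x * l)⁻¹) * b⁻¹ = x * (l⁻¹ * x * l)⁻¹ := by
      have h7 : w * (x * (l⁻¹ * x * l)⁻¹) * w⁻¹ = x * (l⁻¹ * x * l)⁻¹ := by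
        apply cj_eq_of_comm
        exact comm_mul hxat.symm (comm_inv (comm_mul (comm_mul (comm_inv hlat.symm) hxat.symm)
          hlat.symm))
      calc b * (x * (l⁻¹ * x * l)⁻¹) * b⁻¹ = (b * x * b⁻¹) * (b * (l⁻¹ * x * l) * b⁻¹)⁻¹ := by group
        _ = (w * x) * (w * (l⁻¹ * x * l))⁻¹ := by rw [hA, h5]
        _ = w * (x * (l⁻¹ * x * l)⁻¹) * w⁻¹ := by group
        _ = _ := h7
    have e2 : x * (l⁻¹ * x * l)⁻¹ = x * l⁻¹ * x⁻¹ * l := by group
    rw [e2] at h6
    apply Subtype.ext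
    change b * (x * l⁻¹ * x⁻¹ * l) * b⁻¹ = x * l⁻¹ * x⁻¹ * l
    exact h6
  have hbN' : b ∈ normalizer (L : Set G) := hb ▸ hbN
  have htwo := Small.small R (ξ := act L x C.xN) (α := act L b hbN') (s := ⟨s, H.sL⟩) C.sq
    (C.o1 C.xN) (act_sq _ hbb) (hfb hbN') (Subtype.ext H.ss) (fun h => H.s1 (congrArg Subtype.val h))
    ((act_fix C.xN H.sL).mpr H.sx) hB
  -- the sign
  letI : CommGroup (F ≃+* F) :=
    { (inferInstance : Group (F ≃+* F)) with mul_comm := ringAut_comm }
  let D : Subgroup G := centralizer ({a} : Set G)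
  have hDN : ∀ h : D, (h : G) ∈ normalizer (L : Set G) := fun h =>
    H.CaN h (mem_centralizer_singleton_iff.mp h.2)
  let χ : D →* (F ≃+* F) :=
    { toFun := fun h => R.fld (act L (h : G) (hDN h))
      map_one' := by
        have h3 := (act_one_iff' (one_mem (normalizer (L : Set G)))).mpr (one_mem _)
        change R.fld (act L 1 _) = 1
        rw [h3, map_one]
      map_mul' := fun y z => by
        change R.fld (act L ((y : G) * (z : G)) _) = _
        rw [← act_mul (hDN y) (hDN z), map_mul] }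
  obtain ⟨f, hfχ⟩ := Prin.prin' (B := F ≃+* F) htwo D χ H.xx
    (mem_centralizer_singleton_iff.mpr H.xa) (by
      intro g hg
      have h1 : g⁻¹ * x * g * a = a * (g⁻¹ * x * g) := mem_centralizer_singleton_iff.mp hg
      have h2 : g * a * g⁻¹ = a := H.fixd (comm_cj_iff.mpr h1).symm
      exact mem_centralizer_singleton_iff.mpr (comm_of_cj_eq h2))
  have hfX : ∀ g ∈ X, f g = 1 := by
    intro g hg
    have h1 : commutator G ≤ f.ker := Abelianization.commutator_subset_ker f
    exact MonoidHom.mem_ker.mp (h1 (hXp hg))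
  have hx1 : f x = 1 := by
    rw [hfχ x (mem_centralizer_singleton_iff.mpr H.xa) rfl]
    exact hfx
  have hf1 : ∀ g, f g = 1 := by
    intro g
    rcases cov g with h1 | h1
    · exact hfX g h1
    · have h2 := hfX _ h1
      rwa [map_mul, hx1, mul_one] at h2
  -- the element `k`
  have hk : ∀ k, k * x = x * k → ∀ hkN : k ∈ normalizer (L : Set G), R.fld (act L k hkN) = 1 := by
    intro k hkx hkN
    have h1 := hfχ k (mem_centralizer_singleton_iff.mpr (H.Cx k hkx)) hkx
    rw [hf1] at h1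
    exact h1.symm
  obtain ⟨p, hp, hps, hpx⟩ := H.xs
  rw [← hb] at hA
  have hpN := le_normalizer hp
  have hnN : n ∈ normalizer (L : Set G) := K_le_M hn
  have hfn : R.fld (act L n hnN) = 1 := by
    rw [(act_one_iff' hnN).mpr hn, map_one]
  have hns : n * s = s * n := (comm_of_mem H.sL hn).symm
  -- `q x q⁻¹ = b x b⁻¹`
  have key : ∀ q (hqN : q ∈ normalizer (L : Set G)), R.fld (act L q hqN) = 1 →
      q * x * q⁻¹ = b * x * b⁻¹ → False := by
    intro q hqN hq1 hqx
    have h1 : q⁻¹ * b * x = x * (q⁻¹ * b) := by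
      calc q⁻¹ * b * x = q⁻¹ * (b * x * b⁻¹) * b := by group
        _ = q⁻¹ * (q * x * q⁻¹) * b := by rw [hqx]
        _ = x * (q⁻¹ * b) := by group
    have h2 := hk _ h1 (mul_mem (inv_mem hqN) hbN')
    rw [← act_mul (inv_mem hqN) hbN', act_inv hqN, map_mul, map_inv, hq1, inv_one, one_mul] at h2
    exact hfb hbN' h2
  rcases h with h | h
  · -- `t₁ = as`
    refine key (n * p) (mul_mem hnN hpN) ?_ ?_
    · rw [← act_mul hnN hpN, map_mul, hfn, hfS p hp, one_mul]
    · rw [hA, h]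
      calc n * p * x * (n * p)⁻¹ = n * (p * x * p⁻¹) * n⁻¹ := by group
        _ = (n * x * n⁻¹) * (n * s * n⁻¹) := by rw [hpx, cj_mul]
        _ = x * a * s := by rw [hnx, cj_eq_of_comm hns]
        _ = x * (a * s) := by group
        _ = a * s * x := (comm_mul H.xa H.sx.symm)
  · refine key p hpN (hfS p hp _) ?_
    rw [hA, h, hpx]
    calc x * s = s * x := H.sx.symm
      _ = (a * a) * s * x := by rw [H.aa, one_mul]
      _ = a * (a * s) * x := by group

end Cfsg.Agent.UGT.FourA.TenF
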